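import Mathlib

/-!
Cauchy's determinant identity and the resulting alternating sum over matrices of natural
numbers with prescribed row and column sums.
-/

set_option autoImplicit false

namespace Cfsg.FlagCharacters

open Finset

/-- Natural number matrices with row sums `α` and column sums `β`. -/
def Mats {n : ℕ} (α β : Fin n → ℕ) : Type :=
  {M : Fin n → Fin n → ℕ // (∀ a, ∑ b, M a b = α a) ∧ ∀ b, ∑ a, M a b = β b}

section CauchyDet

variable {n : ℕ}

/-- The polynomial `∏_{k ≠ j} (1 - y k • X)`. -/
noncomputable def cauchyPoly {R : Type*} [CommRing R] (y : Fin n → R) (j : Fin n) :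
    Polynomial R :=
  ∏ k ∈ univ.erase j, (1 - Polynomial.C (y k) * Polynomial.X)

theorem natDegree_cauchyPoly_lt {R : Type*} [CommRing R] (y : Fin n → R) (j : Fin n) :
    (cauchyPoly y j).natDegree < n := by
  have h1 : (cauchyPoly y j).natDegree ≤ ∑ k ∈ univ.erase j, 1 :=
    le_trans (Polynomial.natDegree_prod_le _ _) (sum_le_sum fun k _ =>
      (Polynomial.natDegree_sub_le _ _).trans
        (max_le (by simp) ((Polynomial.natDegree_C_mul_le _ _).trans (Polynomial.natDegree_X_le))))
  have h2 : ∑ k ∈ univ.erase j, 1 = n - 1 := by simp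
  have := j.pos
  omega

theorem eval_cauchyPoly {R : Type*} [CommRing R] (y : Fin n → R) (j : Fin n) (x : R) :
    (cauchyPoly y j).eval x = ∏ k ∈ univ.erase j, (1 - x * y k) := by
  simp only [cauchyPoly, Polynomial.eval_prod, Polynomial.eval_sub, Polynomial.eval_one,
    Polynomial.eval_mul, Polynomial.eval_C, Polynomial.eval_X, mul_comm]

/-- The coefficient matrix of `cauchyPoly`. -/
noncomputable def coeffMat {R : Type*} [CommRing R] (y : Fin n → R) : Matrix (Fin n) (Fin n) R :=
  Matrix.of fun m j => (cauchyPoly y j).coeff m.val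

theorem of_eval_eq_mul {R : Type*} [CommRing R] (x y : Fin n → R) :
    Matrix.of (fun i j => ∏ k ∈ univ.erase j, (1 - x i * y k)) =
      Matrix.vandermonde x * coeffMat y := by
  ext i j
  rw [Matrix.of_apply, ← eval_cauchyPoly, Matrix.mul_apply,
    Polynomial.eval_eq_sum_range' (natDegree_cauchyPoly_lt y j), ← Fin.sum_univ_eq_sum_range]
  refine sum_congr rfl fun m _ => ?_
  simp [coeffMat, Matrix.vandermonde, mul_comm]

theorem det_coeffMat_field {K : Type*} [Field K] (y : Fin n → K) (hy : ∀ i, y i ≠ 0)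
    (hinj : Function.Injective y) :
    (coeffMat y).det = (Matrix.vandermonde y).det := by
  have hd : (Matrix.vandermonde fun i => (y i)⁻¹) * coeffMat y =
      Matrix.diagonal fun i => ∏ k ∈ univ.erase i, (1 - (y i)⁻¹ * y k) := by
    rw [← of_eval_eq_mul]
    ext i j
    rw [Matrix.of_apply]
    by_cases hij : i = j
    · subst hij; rw [Matrix.diagonal_apply_eq]
    · rw [Matrix.diagonal_apply_ne _ hij]
      refine prod_eq_zero (mem_erase.2 ⟨hij, mem_univ i⟩) ?_
      rw [inv_mul_cancel₀ (hy i), sub_self]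
  have hdet := congrArg Matrix.det hd
  rw [Matrix.det_mul, Matrix.det_diagonal] at hdet
  have hne : (Matrix.vandermonde fun i => (y i)⁻¹).det ≠ 0 :=
    Matrix.det_vandermonde_ne_zero_iff.2 (inv_injective.comp hinj)
  apply mul_left_cancel₀ hne
  rw [hdet, Matrix.det_vandermonde, Matrix.det_vandermonde]
  have hsplit : ∀ f : Fin n → Fin n → K,
      ∏ i, ∏ k ∈ univ.erase i, f i k = ∏ i, ∏ j ∈ Ioi i, f i j * f j i := by
    intro f
    simp only [prod_mul_distrib]
    have h2 : ∏ i, ∏ j ∈ Ioi i, f j i = ∏ i, ∏ j ∈ Iio i, f i j :=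
      prod_comm' (fun i j => by simp)
    rw [h2, ← prod_mul_distrib]
    refine prod_congr rfl fun i _ => ?_
    rw [← prod_union (disjoint_left.2 fun x hx hx' =>
      lt_asymm (mem_Ioi.1 hx) (mem_Iio.1 hx'))]
    refine prod_congr ?_ fun _ _ => rfl
    ext x
    simp only [mem_erase, mem_univ, and_true, mem_union, mem_Ioi, mem_Iio]
    exact ⟨fun h => h.lt_or_gt.symm, fun h => h.elim ne_of_gt ne_of_lt⟩
  rw [hsplit, ← prod_mul_distrib]
  refine prod_congr rfl fun i _ => ?_
  rw [← prod_mul_distrib]
  refine prod_congr rfl fun j _ => ?_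
  have := hy i
  have := hy j
  field_simp

theorem det_coeffMat {R : Type*} [CommRing R] (y : Fin n → R) :
    (coeffMat y).det = (Matrix.vandermonde y).det := by
  let Z : Fin n → MvPolynomial (Fin n) ℤ := MvPolynomial.X
  have hmap : ∀ {S T : Type} [CommRing S] [CommRing T] (φ : S →+* T) (z : Fin n → S),
      φ.mapMatrix (coeffMat z) = coeffMat (fun i => φ (z i)) := by
    intro S T _ _ φ z
    ext m j
    simp only [RingHom.mapMatrix_apply, Matrix.map_apply, coeffMat, Matrix.of_apply]
    rw [← Polynomial.coeff_map, cauchyPoly, Polynomial.map_prod]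
    simp [cauchyPoly]
  have hgen : (coeffMat Z).det = (Matrix.vandermonde Z).det := by
    let K := FractionRing (MvPolynomial (Fin n) ℤ)
    let φ : MvPolynomial (Fin n) ℤ →+* K := algebraMap _ _
    have hφ : Function.Injective φ := IsFractionRing.injective _ _
    apply hφ
    rw [RingHom.map_det, RingHom.map_det, hmap, det_coeffMat_field]
    · congr 1
      ext i j
      simp [Matrix.vandermonde]
    · intro i h
      exact MvPolynomial.X_ne_zero i (hφ (h.trans (map_zero φ).symm))
    · exact hφ.comp (MvPolynomial.X_injective)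
  have h := congrArg (MvPolynomial.eval₂Hom (Int.castRingHom R) y) hgen
  rw [RingHom.map_det, RingHom.map_det] at h
  convert h using 2
  · ext m j
    simp only [RingHom.mapMatrix_apply, Matrix.map_apply, coeffMat, Matrix.of_apply]
    rw [← Polynomial.coeff_map, cauchyPoly, cauchyPoly, Polynomial.map_prod]
    simp [Z]
  · ext i j
    simp [Matrix.vandermonde, Z]

theorem cauchy_det {R : Type*} [CommRing R] (x y : Fin n → R) :
    (Matrix.of fun i j => ∏ k ∈ univ.erase j, (1 - x i * y k)).det =
      (Matrix.vandermonde x).det * (Matrix.vandermonde y).det := by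
  rw [of_eval_eq_mul, Matrix.det_mul, det_coeffMat]

end CauchyDet

section Series

variable {σ : Type*}

/-- The geometric series of a monomial. -/
noncomputable def geom (m : σ →₀ ℕ) : MvPowerSeries σ ℤ :=
  fun d => open Classical in if ∃ k : ℕ, d = k • m then 1 else 0

theorem coeff_geom (m d : σ →₀ ℕ) [Decidable (∃ k : ℕ, d = k • m)] :
    MvPowerSeries.coeff d (geom m) = if ∃ k : ℕ, d = k • m then 1 else 0 := by
  show geom m d = _
  unfold geom
  split_ifs <;> rfl

theorem geom_mul_one_sub (m : σ →₀ ℕ) (hm : m ≠ 0) :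
    (1 - MvPowerSeries.monomial m (1 : ℤ)) * geom m = 1 := by
  classical
  ext d
  rw [sub_mul, one_mul, map_sub, MvPowerSeries.coeff_monomial_mul, MvPowerSeries.coeff_one,
    coeff_geom, coeff_geom, one_mul]
  obtain ⟨s, hs⟩ := Finsupp.ne_iff.1 hm
  rw [Finsupp.zero_apply] at hs
  by_cases hd : d = 0
  · subst hd
    have h1 : ¬ m ≤ 0 := fun h => hm (nonpos_iff_eq_zero.1 h)
    rw [if_pos ⟨0, by simp⟩, if_neg h1, if_pos rfl, sub_zero]
  · rw [if_neg hd]
    by_cases hk : ∃ k : ℕ, d = k • m
    · obtain ⟨k, rfl⟩ := hk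
      obtain ⟨j, rfl⟩ : ∃ j, k = j + 1 := Nat.exists_eq_succ_of_ne_zero
        (fun h => hd (by simp [h]))
      have h2 : m ≤ (j + 1) • m := by rw [succ_nsmul]; exact le_add_self
      rw [if_pos ⟨j + 1, rfl⟩, if_pos h2, if_pos ⟨j, by rw [succ_nsmul, add_tsub_cancel_right]⟩,
        sub_self]
    · rw [if_neg hk]
      by_cases hle : m ≤ d
      · rw [if_pos hle, if_neg, sub_zero]
        rintro ⟨k, h⟩
        exact hk ⟨k + 1, by rw [succ_nsmul, ← h, tsub_add_cancel_of_le hle]⟩
      · rw [if_neg hle, sub_zero]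

theorem coeff_prod_geom {E : Type*} [Fintype E] (m : E → σ →₀ ℕ) (hm : ∀ e, m e ≠ 0)
    (d : σ →₀ ℕ) :
    MvPowerSeries.coeff d (∏ e, geom (m e)) =
      (Nat.card {a : E → ℕ // ∑ e, a e • m e = d} : ℤ) := by
  classical
  rw [MvPowerSeries.coeff_prod]
  simp only [coeff_geom]
  simp only [prod_boole]
  trans ((((univ : Finset E).finsuppAntidiag d).filter
    fun l : E →₀ σ →₀ ℕ => ∀ e, ∃ k : ℕ, l e = k • m e).card : ℤ)
  · rw [natCast_card_filter]
    exact sum_congr rfl fun l _ => by split_ifs with h1 h2 h2 <;> simp_all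
  congr 1
  rw [← Nat.card_eq_finsetCard]
  refine (Nat.card_congr (Equiv.ofBijective
    (fun a : {a : E → ℕ // ∑ e, a e • m e = d} =>
      (⟨Finsupp.equivFunOnFinite.symm fun e => a.1 e • m e,
        mem_filter.2 ⟨mem_finsuppAntidiag.2 ⟨a.2, subset_univ _⟩, fun e => ⟨a.1 e, rfl⟩⟩⟩ :
        {l : E →₀ σ →₀ ℕ // l ∈ ((univ : Finset E).finsuppAntidiag d).filter
          fun l => ∀ e, ∃ k : ℕ, l e = k • m e})) ⟨?_, ?_⟩)).symm
  · intro a b h
    refine Subtype.ext (funext fun e => ?_)
    obtain ⟨s, hs⟩ := Finsupp.ne_iff.1 (hm e)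
    rw [Finsupp.zero_apply] at hs
    have h' := congrArg (fun l : {l : E →₀ σ →₀ ℕ // l ∈ _} => (l.1 e) s) h
    exact Nat.eq_of_mul_eq_mul_right (Nat.pos_of_ne_zero hs) (by simpa using h')
  · rintro ⟨l, hl⟩
    obtain ⟨hl, hl'⟩ := mem_filter.1 hl
    choose k hk using hl'
    refine ⟨⟨k, ?_⟩, Subtype.ext (Finsupp.ext fun e => (hk e).symm)⟩
    rw [← sum_congr rfl fun e _ => hk e]
    exact (mem_finsuppAntidiag.1 hl).1

end Series

section Alternating

variable {n : ℕ}

/-- The exponent vector of the monomial `x i * y j`. -/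
noncomputable def pairExp (e : Fin n × Fin n) : Fin n ⊕ Fin n →₀ ℕ :=
  Finsupp.single (Sum.inl e.1) 1 + Finsupp.single (Sum.inr e.2) 1

/-- An exponent vector from its two halves. -/
noncomputable def expOf (α β : Fin n → ℕ) : Fin n ⊕ Fin n →₀ ℕ :=
  Finsupp.equivFunOnFinite.symm (Sum.elim α β)

theorem pairExp_ne_zero (e : Fin n × Fin n) : pairExp e ≠ 0 := by
  intro h
  have := congrArg (fun f : Fin n ⊕ Fin n →₀ ℕ => f (Sum.inl e.1)) h
  simp [pairExp] at this

theorem coeff_allPairs (α β : Fin n → ℕ) :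
    MvPowerSeries.coeff (expOf α β) (∏ e : Fin n × Fin n, geom (pairExp e)) =
      (Nat.card (Mats α β) : ℤ) := by
  rw [coeff_prod_geom _ pairExp_ne_zero]
  congr 1
  refine Nat.card_congr ((Equiv.curry _ _ _).subtypeEquiv fun a => ?_)
  rw [Finsupp.ext_iff, Sum.forall]
  refine and_congr (forall_congr' fun i => ?_) (forall_congr' fun i => ?_)
  · simp [pairExp, expOf, Finsupp.finsetSum_apply, Finsupp.single_apply, Fintype.sum_prod_type,
      Function.curry]
  · simp [pairExp, expOf, Finsupp.finsetSum_apply, Finsupp.single_apply, Fintype.sum_prod_type,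
      Function.curry]

theorem coeff_perm_series (σ : Equiv.Perm (Fin n)) (lam : Fin n → ℕ)
    (hlam : Function.Injective lam) :
    MvPowerSeries.coeff (expOf lam lam) (∏ i, geom (pairExp (i, σ i))) =
      if σ = 1 then 1 else 0 := by
  classical
  rw [coeff_prod_geom _ (fun i => pairExp_ne_zero _)]
  have hiff : ∀ a : Fin n → ℕ, (∑ i, a i • pairExp (i, σ i) = expOf lam lam) ↔
      a = lam ∧ ∀ i, a i = lam (σ i) := by
    intro a
    rw [Finsupp.ext_iff, Sum.forall, funext_iff]
    refine and_congr (forall_congr' fun i => ?_) ?_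
    · simp [pairExp, expOf, Finsupp.finsetSum_apply, Finsupp.single_apply]
    · constructor
      · intro h i
        have := h (σ i)
        simpa [pairExp, expOf, Finsupp.finsetSum_apply, Finsupp.single_apply] using this
      · intro h j
        obtain ⟨i, rfl⟩ := σ.surjective j
        simpa [pairExp, expOf, Finsupp.finsetSum_apply, Finsupp.single_apply] using h i
  rw [Nat.card_congr (Equiv.subtypeEquivRight hiff)]
  split_ifs with h
  · subst h
    have : Unique {a : Fin n → ℕ // a = lam ∧ ∀ i, a i = lam ((1 : Equiv.Perm (Fin n)) i)} :=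
      { default := ⟨lam, rfl, fun i => rfl⟩, uniq := fun a => Subtype.ext a.2.1 }
    rw [Nat.card_unique, Nat.cast_one]
  · have : IsEmpty {a : Fin n → ℕ // a = lam ∧ ∀ i, a i = lam (σ i)} :=
      ⟨fun a => h (Equiv.ext fun i => (hlam (by
        have := a.2.2 i
        rwa [a.2.1] at this)).symm)⟩
    simp

/-- The permutations with all values below `lam`. -/
def admSet (lam : Fin n → ℕ) : Finset (Equiv.Perm (Fin n)) :=
  univ.filter fun κ => ∀ i, (κ i).val ≤ lam i

theorem alternating_mats (lam : Fin n → ℕ) (hlam : Function.Injective lam) :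
    ∑ κ ∈ admSet lam, ∑ π ∈ admSet lam,
      (Equiv.Perm.sign κ : ℤ) * (Equiv.Perm.sign π : ℤ) *
        (Nat.card (Mats (fun i => lam i - (κ i).val) (fun i => lam i - (π i).val)) : ℤ) = 1 := by
  classical
  let R := MvPowerSeries (Fin n ⊕ Fin n) ℤ
  let x : Fin n → R := fun i => MvPowerSeries.monomial (Finsupp.single (Sum.inl i) 1) 1
  let y : Fin n → R := fun i => MvPowerSeries.monomial (Finsupp.single (Sum.inr i) 1) 1
  have hxy : ∀ i j, x i * y j = MvPowerSeries.monomial (pairExp (i, j)) 1 := fun i j =>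
    (MvPowerSeries.monomial_mul_monomial _ _ _ _).trans (by rw [mul_one]; rfl)
  set D : Matrix (Fin n) (Fin n) R := Matrix.of fun i j => geom (pairExp (i, j)) with hD
  set P : R := ∏ e : Fin n × Fin n, geom (pairExp e) with hP
  -- Cauchy's identity
  have hrow : ∀ i j, geom (pairExp (i, j)) =
      (∏ k, geom (pairExp (i, k))) * ∏ k ∈ univ.erase j, (1 - x i * y k) := by
    intro i j
    rw [← mul_prod_erase univ (fun k => geom (pairExp (i, k))) (mem_univ j), mul_assoc,
      ← prod_mul_distrib, prod_eq_one (fun k _ => by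
        rw [hxy, mul_comm]; exact geom_mul_one_sub _ (pairExp_ne_zero _)), mul_one]
  have hdet : D.det = P * ((Matrix.vandermonde x).det * (Matrix.vandermonde y).det) := by
    have : D = Matrix.of fun i j => (∏ k, geom (pairExp (i, k))) *
        (Matrix.of fun i j => ∏ k ∈ univ.erase j, (1 - x i * y k)) i j := by
      refine Matrix.ext fun i j => ?_
      exact hrow i j
    rw [this, Matrix.det_mul_column, cauchy_det, hP, Fintype.prod_prod_type]
  have hvand : ∀ (inj : Fin n → Fin n ⊕ Fin n),
      (Matrix.vandermonde fun i => (MvPowerSeries.monomial (Finsupp.single (inj i) 1) 1 : R)).det =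
      ∑ κ : Equiv.Perm (Fin n), MvPowerSeries.monomial
        (∑ i, Finsupp.single (inj i) (κ i).val) (Equiv.Perm.sign κ : ℤ) := by
    intro inj
    rw [← Matrix.det_transpose, Matrix.det_apply]
    refine sum_congr rfl fun κ _ => ?_
    simp only [Matrix.transpose_apply, Matrix.vandermonde, Matrix.of_apply]
    rw [prod_congr rfl fun i _ => (MvPowerSeries.monomial_pow _ _ _), ]
    simp only [Finsupp.smul_single, smul_eq_mul, mul_one, one_pow]
    rw [MvPowerSeries.prod_monomial, prod_const_one, Units.smul_def, ← map_zsmul, smul_eq_mul,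
      mul_one]
  have hsum : ∀ κ π : Equiv.Perm (Fin n),
      (∑ i, Finsupp.single (Sum.inl i : Fin n ⊕ Fin n) (κ i).val) +
        ∑ i, Finsupp.single (Sum.inr i) (π i).val =
      expOf (fun i => (κ i).val) (fun i => (π i).val) := by
    intro κ π
    ext s
    rcases s with i | i <;> simp [expOf, Finsupp.finsetSum_apply, Finsupp.single_apply]
  have e1 : MvPowerSeries.coeff (expOf lam lam) D.det = 1 := by
    rw [← Matrix.det_transpose, Matrix.det_apply, map_sum, sum_eq_single (1 : Equiv.Perm (Fin n))]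
    · simp only [Equiv.Perm.sign_one, one_smul, Equiv.Perm.one_apply, Matrix.transpose_apply, hD,
        Matrix.of_apply]
      have := coeff_perm_series (1 : Equiv.Perm (Fin n)) lam hlam
      simpa using this
    · intro σ _ hσ
      simp only [Matrix.transpose_apply, hD, Matrix.of_apply, Units.smul_def, map_zsmul]
      rw [coeff_perm_series σ lam hlam, if_neg hσ, smul_zero]
    · simp
  rw [hdet, hvand (fun i => Sum.inl i), hvand (fun i => Sum.inr i), Finset.sum_mul_sum,
    mul_sum, map_sum] at e1
  rw [← e1]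
  rw [admSet, sum_filter]
  refine sum_congr rfl fun κ _ => ?_
  rw [mul_sum, map_sum, sum_filter]
  by_cases hκ : ∀ i, (κ i).val ≤ lam i
  · rw [if_pos hκ]
    refine sum_congr rfl fun π _ => ?_
    rw [MvPowerSeries.monomial_mul_monomial, hsum, MvPowerSeries.coeff_mul_monomial]
    by_cases hπ : ∀ i, (π i).val ≤ lam i
    · have hle : expOf (fun i => (κ i).val) (fun i => (π i).val) ≤ expOf lam lam := by
        intro s
        rcases s with i | i
        · exact hκ i
        · exact hπ i
      have hsub : expOf lam lam - expOf (fun i => (κ i).val) (fun i => (π i).val) =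
          expOf (fun i => lam i - (κ i).val) (fun i => lam i - (π i).val) := by
        ext s
        rcases s with i | i <;> simp [expOf]
      rw [if_pos hπ, if_pos hle, hsub, coeff_allPairs, mul_comm]
    · rw [if_neg hπ, if_neg]
      intro hle
      exact hπ fun i => hle (Sum.inr i)
  · rw [if_neg hκ]
    refine (sum_eq_zero fun π _ => ?_).symm
    rw [MvPowerSeries.monomial_mul_monomial, hsum, MvPowerSeries.coeff_mul_monomial, if_neg]
    intro hle
    exact hκ fun i => hle (Sum.inl i)

end Alternating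

end Cfsg.FlagCharacters
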