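import Mathlib
import Cfsg.Agent.S2422
import Cfsg.Agent.Lib.FlagCharacters.Cauchy

/-!
Orbits of `Sym n` on pairs of colourings and of `GL_n(F)` on pairs of flags: both are in
bijection with natural number matrices with prescribed row and column sums.
-/

set_option autoImplicit false

namespace Cfsg.FlagCharacters

open Cfsg Cfsg.Agent.S2422 Finset

section Burnside

theorem fixedPointCharacter_inner {G : Type*} [Group G] [Fintype G] (H K : Subgroup G) :
    (Nat.card G : ℂ)⁻¹ * ∑ g : G, fixedPointCharacter H g * fixedPointCharacter K g =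
      (Nat.card (MulAction.orbitRel.Quotient G ((G ⧸ H) × (G ⧸ K))) : ℂ) := by
  classical
  haveI : Fintype (MulAction.orbitRel.Quotient G ((G ⧸ H) × (G ⧸ K))) := Fintype.ofFinite _
  have h := MulAction.sum_card_fixedBy_eq_card_orbits_mul_card_group G ((G ⧸ H) × (G ⧸ K))
  have h2 : ∀ g : G, fixedPointCharacter H g * fixedPointCharacter K g =
      ((Fintype.card (MulAction.fixedBy ((G ⧸ H) × (G ⧸ K)) g) : ℕ) : ℂ) := by
    intro g
    rw [fixedPointCharacter, fixedPointCharacter, ← Nat.cast_mul, ← Nat.card_prod,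
      ← Nat.card_eq_fintype_card]
    congr 1
    refine Nat.card_congr
      { toFun := fun p => ⟨(p.1.1, p.2.1), Prod.ext p.1.2 p.2.2⟩
        invFun := fun q => (⟨q.1.1, congrArg Prod.fst q.2⟩, ⟨q.1.2, congrArg Prod.snd q.2⟩)
        left_inv := fun p => rfl
        right_inv := fun q => rfl }
  rw [sum_congr rfl fun g _ => h2 g, ← Nat.cast_sum, h, Nat.cast_mul, Nat.card_eq_fintype_card,
    Nat.card_eq_fintype_card]
  field_simp

end Burnside

variable {n : ℕ}

theorem label_lt_iff {μ : Fin n → ℕ} (hμ : ∑ k, μ k = n) (i : Fin n) (t : ℕ) :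
    compLabel μ i < t ↔ i.val < psum μ t := by
  have key : compLabel μ i =
      (univ.filter fun k : Fin n => psum μ (k.val + 1) ≤ i.val).card := by
    unfold compLabel
    congr 1
    refine filter_congr fun k _ => ?_
    rw [psum]
    refine iff_of_eq (congrArg (· ≤ i.val) (sum_congr (filter_congr fun l _ => ?_) fun _ _ => rfl))
    rw [Fin.le_def, Nat.lt_succ_iff]
  rw [key]
  constructor
  · intro h
    by_contra hc
    push Not at hc
    have htn : t ≤ n := by
      by_contra h'
      have := psum_mono μ (show n ≤ t by omega)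
      rw [psum_top hμ] at this
      have := i.2
      omega
    have : (univ.map (Fin.castLEEmb htn)).card ≤
        (univ.filter fun k : Fin n => psum μ (k.val + 1) ≤ i.val).card := by
      refine card_le_card fun k hk => ?_
      obtain ⟨j, -, rfl⟩ := mem_map.1 hk
      refine mem_filter.2 ⟨mem_univ _, le_trans (psum_mono μ ?_) hc⟩
      show j.val + 1 ≤ t
      omega
    rw [card_map, card_univ, Fintype.card_fin] at this
    omega
  · intro h
    rcases t with _ | t
    · simp [psum_zero] at h
    have : (univ.filter fun k : Fin n => psum μ (k.val + 1) ≤ i.val).card ≤ (range t).card := by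
      refine card_le_card_of_injOn (fun k => k.val) (fun k hk => ?_) (Fin.val_injective.injOn)
      have hk' : psum μ (k.val + 1) ≤ i.val := (mem_filter.1 hk).2
      refine mem_coe.2 (mem_range.2 ?_)
      show k.val < t
      by_contra h'
      have := psum_mono μ (show t + 1 ≤ k.val + 1 by omega)
      omega
    rw [card_range] at this
    omega

/-- The block of a position. -/
def label {μ : Fin n → ℕ} (hμ : ∑ k, μ k = n) (i : Fin n) : Fin n :=
  ⟨compLabel μ i, (label_lt_iff hμ i n).2 (by rw [psum_top hμ]; exact i.2)⟩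

theorem card_lt_eq_psum {μ : Fin n → ℕ} (hμ : ∑ k, μ k = n) (t : ℕ) :
    (univ.filter fun i => (label hμ i).val < t).card = psum μ t := by
  have h : psum μ t ≤ n := psum_le hμ t
  have : (univ.filter fun i => (label hμ i).val < t) = univ.map (Fin.castLEEmb h) := by
    ext i
    simp only [mem_filter, mem_univ, true_and, mem_map]
    show compLabel μ i < t ↔ _
    rw [label_lt_iff hμ]
    exact ⟨fun hi => ⟨⟨i.val, hi⟩, Fin.ext rfl⟩, fun ⟨j, hj⟩ => hj ▸ j.2⟩
  rw [this, card_map, card_univ, Fintype.card_fin]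

theorem card_lt_eq_sum_fibres (c : Fin n → Fin n) (t : ℕ) :
    (univ.filter fun i => (c i).val < t).card =
      ∑ a ∈ univ.filter (fun a : Fin n => a.val < t), (univ.filter fun i => c i = a).card := by
  rw [card_eq_sum_card_fiberwise (f := c) (t := univ.filter fun a : Fin n => a.val < t)
    (fun i hi => mem_filter.2 ⟨mem_univ _, (mem_filter.1 hi).2⟩)]
  refine sum_congr rfl fun a ha => ?_
  rw [filter_filter]
  congr 1
  exact filter_congr fun i _ => ⟨fun h => h.2, fun h => ⟨h ▸ (mem_filter.1 ha).2, h⟩⟩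

theorem fibre_eq_of_card_lt {c : Fin n → Fin n} {μ : Fin n → ℕ}
    (h : ∀ t, (univ.filter fun i => (c i).val < t).card = psum μ t) (a : Fin n) :
    (univ.filter fun i => c i = a).card = μ a := by
  have h1 := h (a.val + 1)
  have h0 := h a.val
  rw [psum_succ] at h1
  rw [card_lt_eq_sum_fibres] at h1 h0
  have : univ.filter (fun j : Fin n => j.val < a.val + 1) =
      insert a (univ.filter (fun j : Fin n => j.val < a.val)) := by
    ext j
    simp only [mem_filter, mem_univ, true_and, mem_insert, Fin.ext_iff]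
    omega
  rw [this, sum_insert (by simp)] at h1
  omega

theorem card_label_eq {μ : Fin n → ℕ} (hμ : ∑ k, μ k = n) (a : Fin n) :
    (univ.filter fun i => label hμ i = a).card = μ a :=
  fibre_eq_of_card_lt (card_lt_eq_psum hμ) a

theorem exists_perm_of_fibres {X I : Type*} [Fintype X] [DecidableEq I] (c c' : X → I)
    (h : ∀ a, (univ.filter fun i => c i = a).card = (univ.filter fun i => c' i = a).card) :
    ∃ π : Equiv.Perm X, ∀ x, c' (π x) = c x := by
  classical
  have e : ∀ a, Nonempty ({x // c x = a} ≃ {x // c' x = a}) := fun a =>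
    ⟨Fintype.equivOfCardEq (by rw [Fintype.card_subtype, Fintype.card_subtype]; exact h a)⟩
  exact ⟨Equiv.ofFiberEquiv fun a => (e a).some, fun x => Equiv.ofFiberEquiv_map _ x⟩

theorem exists_perm_label {μ : Fin n → ℕ} (hμ : ∑ k, μ k = n) (c : Fin n → Fin n)
    (hc : ∀ a, (univ.filter fun i => c i = a).card = μ a) :
    ∃ σ : Equiv.Perm (Fin n), ∀ x, label hμ (σ.symm x) = c x := by
  obtain ⟨π, hπ⟩ := exists_perm_of_fibres c (label hμ) (fun a => by rw [hc, card_label_eq hμ])
  exact ⟨π.symm, fun x => by simpa using hπ x⟩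

theorem card_comp_perm {μ : Fin n → ℕ} (hμ : ∑ k, μ k = n) (σ : Equiv.Perm (Fin n)) (a : Fin n) :
    (univ.filter fun i => label hμ (σ.symm i) = a).card = μ a := by
  rw [← card_label_eq hμ a]
  refine card_bij' (fun i _ => σ.symm i) (fun i _ => σ i) ?_ ?_ ?_ ?_ <;> intro i hi <;>
    simp_all

section Young

theorem mk_young_eq_iff {μ : Fin n → ℕ} (hμ : ∑ k, μ k = n) {σ τ : Equiv.Perm (Fin n)} :
    (σ : Equiv.Perm (Fin n) ⧸ youngSubgroup μ) = τ ↔
      ∀ x, label hμ (σ.symm x) = label hμ (τ.symm x) := by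
  rw [QuotientGroup.eq]
  constructor
  · intro h x
    have h1 := h (τ.symm x)
    refine Fin.ext ?_
    show compLabel μ _ = compLabel μ _
    simpa [Equiv.Perm.inv_def] using h1
  · intro h i
    have h1 := congrArg Fin.val (h (τ i))
    simpa [label, Equiv.Perm.inv_def] using h1

variable {α β : Fin n → ℕ} (hα : ∑ k, α k = n) (hβ : ∑ k, β k = n)

/-- The matrix of colour counts of a pair of colourings. -/
def cnt (σ τ : Equiv.Perm (Fin n)) (a b : Fin n) : ℕ :=
  (univ.filter fun x => (label hα (σ.symm x), label hβ (τ.symm x)) = (a, b)).card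

theorem exists_perms_of_mat (M : Mats α β) :
    ∃ σ τ : Equiv.Perm (Fin n), ∀ a b, cnt hα hβ σ τ a b = M.1 a b := by
  classical
  have hcard : Fintype.card (Σ ab : Fin n × Fin n, Fin (M.1 ab.1 ab.2)) = n := by
    rw [Fintype.card_sigma]
    simp only [Fintype.card_fin, Fintype.sum_prod_type]
    rw [sum_congr rfl fun a _ => M.2.1 a, hα]
  let e : Fin n ≃ Σ ab : Fin n × Fin n, Fin (M.1 ab.1 ab.2) :=
    (Fintype.equivFinOfCardEq hcard).symm
  have hcount : ∀ p : Fin n × Fin n → Prop, ∀ _ : DecidablePred p,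
      (univ.filter fun x => p (e x).1).card = ∑ ab ∈ univ.filter p, M.1 ab.1 ab.2 := by
    intro p _
    have h1 : (univ.filter fun x => p (e x).1).card =
        ((univ.filter p).sigma fun ab : Fin n × Fin n =>
          (univ : Finset (Fin (M.1 ab.1 ab.2)))).card := by
      refine card_equiv e fun x => ?_
      simp
    rw [h1, card_sigma]
    simp
  obtain ⟨σ, hσ⟩ := exists_perm_label hα (fun x => (e x).1.1) (fun a => by
    rw [hcount (fun ab => ab.1 = a) inferInstance, ← M.2.1 a]
    refine sum_bij' (fun ab _ => ab.2) (fun b _ => (a, b)) ?_ ?_ ?_ ?_ ?_ <;> intro x hx <;>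
      simp_all [Prod.ext_iff])
  obtain ⟨τ, hτ⟩ := exists_perm_label hβ (fun x => (e x).1.2) (fun b => by
    rw [hcount (fun ab => ab.2 = b) inferInstance, ← M.2.2 b]
    refine sum_bij' (fun ab _ => ab.1) (fun a _ => (a, b)) ?_ ?_ ?_ ?_ ?_ <;> intro x hx <;>
      simp_all [Prod.ext_iff])
  refine ⟨σ, τ, fun a b => ?_⟩
  rw [cnt]
  simp only [hσ, hτ, Prod.mk.eta]
  rw [hcount (fun ab => ab = (a, b)) inferInstance]
  simp [filter_eq']

theorem exists_perm_of_cnt {σ τ σ' τ' : Equiv.Perm (Fin n)}
    (h : ∀ a b, cnt hα hβ σ τ a b = cnt hα hβ σ' τ' a b) :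
    ∃ π : Equiv.Perm (Fin n), (∀ x, label hα (σ'.symm (π x)) = label hα (σ.symm x)) ∧
      ∀ x, label hβ (τ'.symm (π x)) = label hβ (τ.symm x) := by
  obtain ⟨π, hπ⟩ := exists_perm_of_fibres
    (fun x => (label hα (σ.symm x), label hβ (τ.symm x)))
    (fun x => (label hα (σ'.symm x), label hβ (τ'.symm x))) (fun ab => h ab.1 ab.2)
  exact ⟨π, fun x => congrArg Prod.fst (hπ x), fun x => congrArg Prod.snd (hπ x)⟩

theorem cnt_mem (σ τ : Equiv.Perm (Fin n)) :
    (∀ a, ∑ b, cnt hα hβ σ τ a b = α a) ∧ ∀ b, ∑ a, cnt hα hβ σ τ a b = β b := by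
  constructor
  · intro a
    rw [← card_comp_perm hα σ a, card_eq_sum_card_fiberwise (f := fun x => label hβ (τ.symm x))
      (t := univ) (fun x _ => mem_univ _)]
    refine sum_congr rfl fun b _ => ?_
    rw [cnt, filter_filter]
    simp [Prod.ext_iff]
  · intro b
    rw [← card_comp_perm hβ τ b, card_eq_sum_card_fiberwise (f := fun x => label hα (σ.symm x))
      (t := univ) (fun x _ => mem_univ _)]
    refine sum_congr rfl fun a _ => ?_
    rw [cnt, filter_filter]
    simp [Prod.ext_iff, and_comm]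

include hα hβ in
theorem card_young_orbits :
    Nat.card (MulAction.orbitRel.Quotient (Equiv.Perm (Fin n))
      ((Equiv.Perm (Fin n) ⧸ youngSubgroup α) × (Equiv.Perm (Fin n) ⧸ youngSubgroup β))) =
      Nat.card (Mats α β) := by
  classical
  choose σ τ hM using exists_perms_of_mat hα hβ
  symm
  refine Nat.card_congr (Equiv.ofBijective (fun M => Quotient.mk'' (((σ M : Equiv.Perm (Fin n)) :
      Equiv.Perm (Fin n) ⧸ youngSubgroup α), ((τ M : Equiv.Perm (Fin n)) :
      Equiv.Perm (Fin n) ⧸ youngSubgroup β))) ⟨?_, ?_⟩)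
  · intro M M' h
    obtain ⟨π, hπ⟩ := MulAction.orbitRel_apply.1 (Quotient.eq''.1 h)
    have h1 : ((π * σ M' : Equiv.Perm (Fin n)) : Equiv.Perm (Fin n) ⧸ youngSubgroup α) = σ M :=
      congrArg Prod.fst hπ
    have h2 : ((π * τ M' : Equiv.Perm (Fin n)) : Equiv.Perm (Fin n) ⧸ youngSubgroup β) = τ M :=
      congrArg Prod.snd hπ
    rw [mk_young_eq_iff hα] at h1
    rw [mk_young_eq_iff hβ] at h2
    refine Subtype.ext (funext fun a => funext fun b => ?_)
    rw [← hM M, ← hM M', cnt, cnt]
    refine card_bij' (fun x _ => π.symm x) (fun x _ => π x) ?_ ?_ ?_ ?_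
    · intro x hx
      simp only [mem_filter, mem_univ, true_and, Prod.mk.injEq] at hx ⊢
      rw [← h1, ← h2] at hx
      simpa [Equiv.Perm.mul_def] using hx
    · intro x hx
      simp only [mem_filter, mem_univ, true_and, Prod.mk.injEq] at hx ⊢
      rw [← h1, ← h2]
      simpa [Equiv.Perm.mul_def] using hx
    · intro x _; simp
    · intro x _; simp
  · intro q
    induction q using Quotient.inductionOn' with
    | h p =>
      obtain ⟨x, y⟩ := p
      obtain ⟨s, rfl⟩ := QuotientGroup.mk_surjective x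
      obtain ⟨t, rfl⟩ := QuotientGroup.mk_surjective y
      let M : Mats α β := ⟨cnt hα hβ s t, cnt_mem hα hβ s t⟩
      refine ⟨M, Quotient.sound' (MulAction.orbitRel_apply.2 ?_)⟩
      obtain ⟨π, h1, h2⟩ := exists_perm_of_cnt hα hβ (σ := s) (τ := t) (σ' := σ M) (τ' := τ M)
        (fun a b => (hM M a b).symm)
      refine ⟨π, Prod.ext ?_ ?_⟩
      · show ((π * s : Equiv.Perm (Fin n)) : Equiv.Perm (Fin n) ⧸ youngSubgroup α) = σ M
        rw [mk_young_eq_iff hα]
        intro x
        have := h1 (π.symm x)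
        rw [Equiv.apply_symm_apply] at this
        simpa [Equiv.Perm.mul_def] using this.symm
      · show ((π * t : Equiv.Perm (Fin n)) : Equiv.Perm (Fin n) ⧸ youngSubgroup β) = τ M
        rw [mk_young_eq_iff hβ]
        intro x
        have := h2 (π.symm x)
        rw [Equiv.apply_symm_apply] at this
        simpa [Equiv.Perm.mul_def] using this.symm

end Young

section Flags

variable {F : Type*} [Field F]

/-- The vectors supported on `A`. -/
def Ecoord (F : Type*) [Field F] (A : Finset (Fin n)) : Submodule F (Fin n → F) where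
  carrier := {v | ∀ i, i ∉ A → v i = 0}
  add_mem' := fun {a b} ha hb i hi => by simp [ha i hi, hb i hi]
  zero_mem' := fun _ _ => rfl
  smul_mem' := fun c a ha i hi => by simp [ha i hi]

/-- `Ecoord F A` as functions on `A`. -/
def ecoordEquiv (A : Finset (Fin n)) : Ecoord F A ≃ₗ[F] (A → F) where
  toFun v i := v.1 i.1
  map_add' _ _ := rfl
  map_smul' _ _ := rfl
  invFun f := ⟨fun i => if h : i ∈ A then f ⟨i, h⟩ else 0, fun i hi => dif_neg hi⟩
  left_inv v := Subtype.ext (funext fun i => by
    by_cases h : i ∈ A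
    · simp [h]
    · simp [h, v.2 i h])
  right_inv f := funext fun i => by simp

theorem finrank_Ecoord (A : Finset (Fin n)) : Module.finrank F (Ecoord F A) = A.card := by
  rw [(ecoordEquiv A).finrank_eq, Module.finrank_fintype_fun_eq_card, Fintype.card_coe]

theorem Ecoord_inf (A B : Finset (Fin n)) : Ecoord F A ⊓ Ecoord F B = Ecoord F (A ∩ B) := by
  ext v
  constructor
  · rintro ⟨h1, h2⟩ i hi
    rw [mem_inter, not_and_or] at hi
    exact hi.elim (h1 i) (h2 i)
  · intro h
    exact ⟨fun i hi => h i (fun h' => hi (mem_of_mem_inter_left h')),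
      fun i hi => h i (fun h' => hi (mem_of_mem_inter_right h'))⟩

theorem map_Ecoord (g : Matrix (Fin n) (Fin n) F) (A : Finset (Fin n)) :
    (Ecoord F A).map (Matrix.mulVecLin g) = Submodule.span F ((fun j i => g i j) '' (A : Set _)) := by
  apply le_antisymm
  · rintro _ ⟨v, hv, rfl⟩
    have : Matrix.mulVecLin g v = ∑ j, v j • (fun i => g i j) := by
      funext i
      simp [Matrix.mulVec, dotProduct, mul_comm]
    rw [this]
    refine Submodule.sum_mem _ fun j _ => ?_
    by_cases hj : j ∈ A
    · exact Submodule.smul_mem _ _ (Submodule.subset_span ⟨j, hj, rfl⟩)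
    · rw [hv j hj, zero_smul]; exact Submodule.zero_mem _
  · rw [Submodule.span_le]
    rintro _ ⟨j, hj, rfl⟩
    refine ⟨Pi.single j 1, fun i hi => Pi.single_eq_of_ne (fun h : i = j => hi (h ▸ hj)) _, ?_⟩
    funext i
    simp [Matrix.mulVec, dotProduct, Pi.single_apply]

/-- The permutation matrices. -/
noncomputable def permGL (F : Type*) [Field F] (σ : Equiv.Perm (Fin n)) : GL (Fin n) F where
  val := LinearMap.toMatrix' (LinearMap.funLeft F F σ.symm)
  inv := LinearMap.toMatrix' (LinearMap.funLeft F F σ)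
  val_inv := by
    rw [← LinearMap.toMatrix'_comp, ← LinearMap.funLeft_comp, Equiv.self_comp_symm,
      show LinearMap.funLeft F F (id : Fin n → Fin n) = LinearMap.id from rfl,
      LinearMap.toMatrix'_id]
  inv_val := by
    rw [← LinearMap.toMatrix'_comp, ← LinearMap.funLeft_comp, Equiv.symm_comp_self,
      show LinearMap.funLeft F F (id : Fin n → Fin n) = LinearMap.id from rfl,
      LinearMap.toMatrix'_id]

theorem permGL_mulVec (σ : Equiv.Perm (Fin n)) (v : Fin n → F) :
    Matrix.mulVec (permGL F σ : Matrix (Fin n) (Fin n) F) v = v ∘ σ.symm := by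
  show Matrix.mulVec (LinearMap.toMatrix' _) v = _
  rw [LinearMap.toMatrix'_mulVec]
  rfl

theorem Efirst_eq {μ : Fin n → ℕ} (hμ : ∑ k, μ k = n) (t : ℕ) :
    Efirst F n (psum μ t) = Ecoord F (univ.filter fun i => (label hμ i).val < t) := by
  ext v
  refine forall_congr' fun i => ?_
  simp only [mem_filter, mem_univ, true_and]
  show (psum μ t ≤ i.val → _) ↔ (¬ compLabel μ i < t → _)
  rw [label_lt_iff hμ, not_lt]

theorem flagW_permGL {μ : Fin n → ℕ} (hμ : ∑ k, μ k = n) (σ : Equiv.Perm (Fin n)) (t : ℕ) :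
    flagW μ (permGL F σ) t =
      Ecoord F (univ.filter fun x => (label hμ (σ.symm x)).val < t) := by
  rw [flagW, Efirst_eq hμ]
  ext v
  constructor
  · rintro ⟨w, hw, rfl⟩ x hx
    rw [Matrix.mulVecLin_apply, permGL_mulVec]
    exact hw _ (by simpa using hx)
  · intro hv
    refine ⟨v ∘ σ, fun i hi => hv (σ i) (by simpa using hi), ?_⟩
    rw [Matrix.mulVecLin_apply, permGL_mulVec]
    funext x
    simp

theorem flagW_mul_perm {μ : Fin n → ℕ} (hμ : ∑ k, μ k = n) (g : GL (Fin n) F)
    (σ : Equiv.Perm (Fin n)) (t : ℕ) :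
    flagW μ (g * permGL F σ) t =
      (Ecoord F (univ.filter fun x => (label hμ (σ.symm x)).val < t)).map
        (Matrix.mulVecLin (g : Matrix (Fin n) (Fin n) F)) := by
  rw [flagW_mul, flagW_permGL hμ]

theorem flagW_zero {μ : Fin n → ℕ} (g : GL (Fin n) F) : flagW μ g 0 = ⊥ := by
  have h : Efirst F n 0 = ⊥ := by
    rw [eq_bot_iff]
    intro v hv
    exact funext fun i => hv i (Nat.zero_le _)
  rw [flagW, psum_zero, h, Submodule.map_bot]

theorem flagW_mono {μ : Fin n → ℕ} (g : GL (Fin n) F) : Monotone (flagW μ g) := fun _ _ h =>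
  Submodule.map_mono fun _ hv i hi => hv i (le_trans (psum_mono μ h) hi)

theorem flagW_top {μ : Fin n → ℕ} (hμ : ∑ k, μ k = n) (g : GL (Fin n) F) :
    flagW μ g n = ⊤ := by
  apply Submodule.eq_top_of_finrank_eq
  rw [finrank_flagW hμ, psum_top hμ, Module.finrank_fintype_fun_eq_card, Fintype.card_fin]

/-- A basis adapted to two chains of subspaces. -/
theorem exists_adapted_pair (U W : ℕ → Submodule F (Fin n → F)) (hU : Monotone U)
    (hW : Monotone W) (hU0 : U 0 = ⊥) (hW0 : W 0 = ⊥) (hUn : U n = ⊤) (hWn : W n = ⊤) :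
    ∃ (g : GL (Fin n) F) (c₁ c₂ : Fin n → Fin n),
      (∀ t, U t = (Ecoord F (univ.filter fun x => (c₁ x).val < t)).map
        (Matrix.mulVecLin (g : Matrix (Fin n) (Fin n) F))) ∧
      ∀ t, W t = (Ecoord F (univ.filter fun x => (c₂ x).val < t)).map
        (Matrix.mulVecLin (g : Matrix (Fin n) (Fin n) F)) := by
  classical
  let Q : Fin n × Fin n → Submodule F (Fin n → F) := fun ab =>
    (U ab.1.val ⊓ W (ab.2.val + 1)) ⊔ (U (ab.1.val + 1) ⊓ W ab.2.val)
  have hQle : ∀ ab, Q ab ≤ U (ab.1.val + 1) ⊓ W (ab.2.val + 1) := fun ab =>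
    sup_le (inf_le_inf_right _ (hU (Nat.le_succ _))) (inf_le_inf_left _ (hW (Nat.le_succ _)))
  have hcompl : ∀ ab, ∃ C, Q ab ⊔ C = U (ab.1.val + 1) ⊓ W (ab.2.val + 1) ∧ Q ab ⊓ C = ⊥ := by
    intro ab
    obtain ⟨C', hC'⟩ := Submodule.exists_isCompl (Q ab)
    refine ⟨C' ⊓ (U (ab.1.val + 1) ⊓ W (ab.2.val + 1)), ?_, ?_⟩
    · rw [← sup_inf_assoc_of_le C' (hQle ab), hC'.sup_eq_top, top_inf_eq]
    · rw [← inf_assoc, hC'.inf_eq_bot, bot_inf_eq]
  choose C hC hC' using hcompl
  let d : ℕ → ℕ → ℤ := fun s t => (Module.finrank F ↥(U s ⊓ W t) : ℤ)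
  have hdim : ∀ ab : Fin n × Fin n, (Module.finrank F (C ab) : ℤ) =
      (d (ab.1.val + 1) (ab.2.val + 1) - d ab.1.val (ab.2.val + 1)) -
        (d (ab.1.val + 1) ab.2.val - d ab.1.val ab.2.val) := by
    intro ab
    have h1 := Submodule.finrank_sup_add_finrank_inf_eq (Q ab) (C ab)
    rw [hC, hC', finrank_bot] at h1
    simp only [Q] at h1
    have h2 := Submodule.finrank_sup_add_finrank_inf_eq (U ab.1.val ⊓ W (ab.2.val + 1))
      (U (ab.1.val + 1) ⊓ W ab.2.val)
    have h3 : (U ab.1.val ⊓ W (ab.2.val + 1)) ⊓ (U (ab.1.val + 1) ⊓ W ab.2.val) =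
        U ab.1.val ⊓ W ab.2.val :=
      le_antisymm (le_inf (inf_le_left.trans inf_le_left) (inf_le_right.trans inf_le_right))
        (le_inf (inf_le_inf_left _ (hW (Nat.le_succ _))) (inf_le_inf_right _ (hU (Nat.le_succ _))))
    rw [h3] at h2
    simp only [d]
    omega
  have htot : (Fintype.card (Σ ab : Fin n × Fin n, Fin (Module.finrank F (C ab))) : ℤ) = n := by
    rw [Fintype.card_sigma]
    push_cast [Fintype.card_fin, Fintype.sum_prod_type]
    simp only [hdim]
    rw [Fin.sum_univ_eq_sum_range (fun a => ∑ b : Fin n,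
      ((d (a + 1) (b.val + 1) - d a (b.val + 1)) - (d (a + 1) b.val - d a b.val)))]
    rw [sum_congr rfl fun a _ => (Fin.sum_univ_eq_sum_range (fun b =>
      (d (a + 1) (b + 1) - d a (b + 1)) - (d (a + 1) b - d a b)) n).trans
      (sum_range_sub (fun b => d (a + 1) b - d a b) n)]
    rw [sum_sub_distrib, sum_range_sub (fun a => d a n), sum_range_sub (fun a => d a 0)]
    simp only [d]
    rw [hUn, hU0, hWn, hW0, inf_idem, bot_inf_eq, inf_bot_eq, bot_inf_eq, finrank_bot, finrank_top,
      Module.finrank_fintype_fun_eq_card, Fintype.card_fin]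
    simp
  let e : Fin n ≃ Σ ab : Fin n × Fin n, Fin (Module.finrank F (C ab)) :=
    (Fintype.equivFinOfCardEq (by exact_mod_cast htot)).symm
  let v : Fin n → (Fin n → F) := fun x => (Module.finBasis F (C (e x).1) (e x).2).1
  let c₁ : Fin n → Fin n := fun x => (e x).1.1
  let c₂ : Fin n → Fin n := fun x => (e x).1.2
  let Sp : ℕ → ℕ → Submodule F (Fin n → F) := fun s t =>
    Submodule.span F (v '' {x | (c₁ x).val < s ∧ (c₂ x).val < t})
  have hSp : ∀ {s s' t t' : ℕ}, s ≤ s' → t ≤ t' → Sp s t ≤ Sp s' t' := fun hs ht =>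
    Submodule.span_mono (Set.image_mono fun x hx => ⟨by have := hx.1; omega, by have := hx.2; omega⟩)
  have hspan : ∀ k s t, s + t ≤ k → s ≤ n → t ≤ n → U s ⊓ W t ≤ Sp s t := by
    intro k
    induction k with
    | zero =>
      intro s t h _ _
      obtain ⟨rfl, rfl⟩ : s = 0 ∧ t = 0 := by omega
      simp [hU0]
    | succ k ih =>
      intro s t h hs ht
      rcases s with _ | a
      · simp [hU0]
      rcases t with _ | b
      · simp [hW0]
      let ab : Fin n × Fin n := (⟨a, by omega⟩, ⟨b, by omega⟩)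
      show U (ab.1.val + 1) ⊓ W (ab.2.val + 1) ≤ _
      rw [← hC ab]
      refine sup_le (sup_le ?_ ?_) ?_
      · exact (ih a (b + 1) (by omega) (by omega) ht).trans (hSp (Nat.le_succ _) le_rfl)
      · exact (ih (a + 1) b (by omega) hs (by omega)).trans (hSp le_rfl (Nat.le_succ _))
      · intro x hx
        have h1 : (⟨x, hx⟩ : C ab) ∈ Submodule.span F (Set.range (Module.finBasis F (C ab))) := by
          rw [(Module.finBasis F (C ab)).span_eq]; trivial
        have h2 := Submodule.mem_map_of_mem (f := (C ab).subtype) h1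
        rw [Submodule.map_span] at h2
        refine (Submodule.span_mono ?_) h2
        rintro _ ⟨_, ⟨j, rfl⟩, rfl⟩
        refine ⟨e.symm ⟨ab, j⟩, ?_, ?_⟩
        · simp [c₁, c₂, ab]
        · simp only [v]
          rw [Equiv.apply_symm_apply]
          rfl
  have hv : ∀ x, v x ∈ U ((c₁ x).val + 1) ⊓ W ((c₂ x).val + 1) := fun x => by
    rw [← hC]; exact Submodule.mem_sup_right (Submodule.coe_mem _)
  have hspan_top : (⊤ : Submodule F (Fin n → F)) ≤ Submodule.span F (Set.range v) := by
    refine le_trans ?_ (Submodule.span_mono (Set.image_subset_range v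
      {x | (c₁ x).val < n ∧ (c₂ x).val < n}))
    have := hspan (n + n) n n le_rfl le_rfl le_rfl
    rw [hUn, hWn, inf_idem] at this
    exact this
  have hli : LinearIndependent F v := linearIndependent_of_top_le_span_of_card_eq_finrank hspan_top
    (by rw [Module.finrank_fintype_fun_eq_card])
  let A : Matrix (Fin n) (Fin n) F := Matrix.of fun i j => v j i
  have hA : IsUnit A := Matrix.linearIndependent_cols_iff_isUnit.1 hli
  have himg : ∀ S : Finset (Fin n),
      (Ecoord F S).map (Matrix.mulVecLin A) = Submodule.span F (v '' (S : Set _)) := map_Ecoord A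
  refine ⟨hA.unit, c₁, c₂, fun t => ?_, fun t => ?_⟩
  · rw [IsUnit.unit_spec, himg]
    apply le_antisymm
    · rcases le_or_gt t n with ht | ht
      · have := hspan (t + n) t n le_rfl ht le_rfl
        rw [hWn, inf_top_eq] at this
        exact this.trans (Submodule.span_mono (Set.image_mono fun x hx => by simpa using hx.1))
      · refine le_trans le_top (hspan_top.trans (Submodule.span_mono ?_))
        rintro _ ⟨x, rfl⟩
        exact ⟨x, by simpa using lt_trans (c₁ x).2 ht, rfl⟩
    · rw [Submodule.span_le]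
      rintro _ ⟨x, hx, rfl⟩
      exact hU (by simpa using hx) (hv x).1
  · rw [IsUnit.unit_spec, himg]
    apply le_antisymm
    · rcases le_or_gt t n with ht | ht
      · have := hspan (n + t) n t le_rfl le_rfl ht
        rw [hUn, top_inf_eq] at this
        exact this.trans (Submodule.span_mono (Set.image_mono fun x hx => by simpa using hx.2))
      · refine le_trans le_top (hspan_top.trans (Submodule.span_mono ?_))
        rintro _ ⟨x, rfl⟩
        exact ⟨x, by simpa using lt_trans (c₂ x).2 ht, rfl⟩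
    · rw [Submodule.span_le]
      rintro _ ⟨x, hx, rfl⟩
      exact hW (by simpa using hx) (hv x).2

variable {α β : Fin n → ℕ}

theorem card_flag_orbits (hα : ∑ k, α k = n) (hβ : ∑ k, β k = n) :
    Nat.card (MulAction.orbitRel.Quotient (GL (Fin n) F)
      ((GL (Fin n) F ⧸ parabolicGL n F α) × (GL (Fin n) F ⧸ parabolicGL n F β))) =
      Nat.card (Mats α β) := by
  classical
  choose σ τ hM using exists_perms_of_mat hα hβ
  symm
  refine Nat.card_congr (Equiv.ofBijective (fun M => Quotient.mk'' (((permGL F (σ M) : GL (Fin n) F) :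
      GL (Fin n) F ⧸ parabolicGL n F α), ((permGL F (τ M) : GL (Fin n) F) :
      GL (Fin n) F ⧸ parabolicGL n F β))) ⟨?_, ?_⟩)
  · intro M M' h
    obtain ⟨g, hg⟩ := MulAction.orbitRel_apply.1 (Quotient.eq''.1 h)
    have h1 : ((g * permGL F (σ M') : GL (Fin n) F) : GL (Fin n) F ⧸ parabolicGL n F α) =
      permGL F (σ M) := congrArg Prod.fst hg
    have h2 : ((g * permGL F (τ M') : GL (Fin n) F) : GL (Fin n) F ⧸ parabolicGL n F β) =
      permGL F (τ M) := congrArg Prod.snd hg
    rw [mk_eq_mk_iff] at h1 h2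
    let A : Mats α β → ℕ → Finset (Fin n) := fun M s =>
      univ.filter fun x => (label hα ((σ M).symm x)).val < s
    let B : Mats α β → ℕ → Finset (Fin n) := fun M s =>
      univ.filter fun x => (label hβ ((τ M).symm x)).val < s
    have hd : ∀ s t, (A M s ∩ B M t).card = (A M' s ∩ B M' t).card := by
      intro s t
      rw [← finrank_Ecoord (F := F), ← finrank_Ecoord (F := F), ← Ecoord_inf, ← Ecoord_inf]
      have ha := h1 s
      have hb := h2 t
      rw [flagW_mul_perm hα, flagW_permGL hα] at ha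
      rw [flagW_mul_perm hβ, flagW_permGL hβ] at hb
      show Module.finrank F ↥(Ecoord F (A M s) ⊓ Ecoord F (B M t)) = _
      rw [← ha, ← hb, ← Submodule.map_inf _ (gl_mulVec_injective g),
        ← (Submodule.equivMapOfInjective _ (gl_mulVec_injective g) _).finrank_eq]
    refine Subtype.ext (funext fun a => funext fun b => ?_)
    have key : ∀ M : Mats α β, (A M (a.val + 1) ∩ B M (b.val + 1)).card + (A M a.val ∩ B M b.val).card
        = (A M a.val ∩ B M (b.val + 1)).card + (A M (a.val + 1) ∩ B M b.val).card + M.1 a b := by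
      intro M
      rw [← hM M a b, cnt]
      simp only [A, B, ← filter_and, card_filter]
      rw [← sum_add_distrib, ← sum_add_distrib, ← sum_add_distrib]
      refine sum_congr rfl fun x _ => ?_
      simp only [Prod.mk.injEq, Fin.ext_iff]
      split_ifs <;> omega
    have k1 := key M
    have k2 := key M'
    rw [hd, hd, hd, hd] at k1
    omega
  · intro q
    induction q using Quotient.inductionOn' with
    | h p =>
      obtain ⟨x, y⟩ := p
      obtain ⟨g, rfl⟩ := QuotientGroup.mk_surjective x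
      obtain ⟨h, rfl⟩ := QuotientGroup.mk_surjective y
      obtain ⟨g0, c₁, c₂, hc₁, hc₂⟩ := exists_adapted_pair (flagW α g) (flagW β h) (flagW_mono g)
        (flagW_mono h) (flagW_zero g) (flagW_zero h) (flagW_top hα g) (flagW_top hβ h)
      have hf₁ : ∀ a, (univ.filter fun i => c₁ i = a).card = α a := fibre_eq_of_card_lt fun t => by
        rw [← finrank_flagW hα g t, hc₁ t,
          ← (Submodule.equivMapOfInjective _ (gl_mulVec_injective g0) _).finrank_eq, finrank_Ecoord]
      have hf₂ : ∀ b, (univ.filter fun i => c₂ i = b).card = β b := fibre_eq_of_card_lt fun t => by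
        rw [← finrank_flagW hβ h t, hc₂ t,
          ← (Submodule.equivMapOfInjective _ (gl_mulVec_injective g0) _).finrank_eq, finrank_Ecoord]
      obtain ⟨s, hs⟩ := exists_perm_label hα c₁ hf₁
      obtain ⟨t, ht⟩ := exists_perm_label hβ c₂ hf₂
      let M : Mats α β := ⟨cnt hα hβ s t, cnt_mem hα hβ s t⟩
      obtain ⟨π, hπ1, hπ2⟩ := exists_perm_of_cnt hα hβ (σ := s) (τ := t) (σ' := σ M) (τ' := τ M)
        (fun a b => (hM M a b).symm)
      refine ⟨M, Quotient.sound' (MulAction.orbitRel_apply.2 ?_)⟩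
      have hperm : ∀ (μ : Fin n → ℕ) (hμ : ∑ k, μ k = n) (k : GL (Fin n) F)
          (c : Fin n → Fin n) (r : Equiv.Perm (Fin n)),
          (∀ u, flagW μ k u = (Ecoord F (univ.filter fun x => (c x).val < u)).map
            (Matrix.mulVecLin (g0 : Matrix (Fin n) (Fin n) F))) →
          (∀ x, label hμ (r.symm (π x)) = c x) →
          ((permGL F π * g0⁻¹ * k : GL (Fin n) F) : GL (Fin n) F ⧸ parabolicGL n F μ) =
            permGL F r := by
        intro μ hμ k c r hk hr
        rw [mk_eq_mk_iff]
        intro u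
        rw [flagW_permGL hμ, flagW_mul, hk, ← Submodule.map_comp, ← Matrix.mulVecLin_mul,
          ← Units.val_mul, inv_mul_cancel_right]
        ext w
        constructor
        · rintro ⟨z, hz, rfl⟩ i hi
          rw [Matrix.mulVecLin_apply, permGL_mulVec]
          refine hz _ ?_
          simp only [mem_filter, mem_univ, true_and] at hi ⊢
          rw [← hr, Equiv.apply_symm_apply]
          exact hi
        · intro hw
          refine ⟨w ∘ π, fun i hi => hw (π i) ?_, ?_⟩
          · simp only [mem_filter, mem_univ, true_and] at hi ⊢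
            rw [hr]
            exact hi
          · rw [Matrix.mulVecLin_apply, permGL_mulVec]
            funext i
            simp
      refine ⟨permGL F π * g0⁻¹, Prod.ext ?_ ?_⟩
      · exact hperm α hα g c₁ (σ M) hc₁ (fun x => (hπ1 x).trans (hs x))
      · exact hperm β hβ h c₂ (τ M) hc₂ (fun x => (hπ2 x).trans (ht x))

end Flags

end Cfsg.FlagCharacters
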