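import Mathlib
import Cfsg.Agent.Lib.FlagCharacters.Pairs

/-!
The index of a standard parabolic subgroup of `GL_n(q)` and the degree of the alternating sums of
flag characters.
-/

set_option autoImplicit false

namespace Cfsg.FlagCharacters

open Cfsg Cfsg.Agent.S2422 Finset

theorem card_indep_in_chain {F V : Type*} [Field F] [Fintype F] [AddCommGroup V] [Module F V]
    [Finite V] : ∀ (k : ℕ) (W : Fin k → Submodule F V), Monotone W →
    Nat.card {v : Fin k → V // LinearIndependent F v ∧ ∀ j, v j ∈ W j} =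
      ∏ j, (Fintype.card F ^ Module.finrank F (W j) - Fintype.card F ^ j.val) := by
  intro k
  induction k with
  | zero =>
    intro W _
    rw [Fin.prod_univ_zero, Nat.card_eq_one_iff_unique]
    exact ⟨⟨fun a b => Subtype.ext (funext fun j => j.elim0)⟩,
      ⟨⟨Fin.elim0, linearIndependent_empty_type, fun j => j.elim0⟩⟩⟩
  | succ k ih =>
    intro W hW
    classical
    let T := {v : Fin k → V // LinearIndependent F v ∧ ∀ j, v j ∈ W j.castSucc}
    let e : {v : Fin (k + 1) → V // LinearIndependent F v ∧ ∀ j, v j ∈ W j} ≃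
        Σ p : T, {x : V // x ∈ W (Fin.last k) ∧ x ∉ Submodule.span F (Set.range p.1)} :=
      { toFun := fun v => ⟨⟨Fin.init v.1, (linearIndependent_finSucc'.1 v.2.1).1,
            fun j => v.2.2 j.castSucc⟩,
          ⟨v.1 (Fin.last k), v.2.2 _, (linearIndependent_finSucc'.1 v.2.1).2⟩⟩
        invFun := fun p => ⟨Fin.snoc p.1.1 p.2.1,
          linearIndependent_finSnoc.2 ⟨p.1.2.1, p.2.2.2⟩,
          fun j => by
            induction j using Fin.lastCases with
            | last => rw [Fin.snoc_last]; exact p.2.2.1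
            | cast j => rw [Fin.snoc_castSucc]; exact p.1.2.2 j⟩
        left_inv := fun v => Subtype.ext (Fin.snoc_init_self v.1)
        right_inv := fun p => by
          obtain ⟨⟨v, hv⟩, ⟨x, hx⟩⟩ := p
          refine Sigma.ext (Subtype.ext (by simp)) ?_
          refine (Subtype.heq_iff_coe_eq ?_).2 (by simp)
          intro y
          simp }
    rw [Nat.card_congr e]
    haveI : Fintype T := Fintype.ofFinite _
    have hfib : ∀ p : T,
        Nat.card {x : V // x ∈ W (Fin.last k) ∧ x ∉ Submodule.span F (Set.range p.1)} =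
          Fintype.card F ^ Module.finrank F (W (Fin.last k)) - Fintype.card F ^ k := by
      intro p
      have hle : Submodule.span F (Set.range p.1) ≤ W (Fin.last k) := by
        rw [Submodule.span_le]
        rintro _ ⟨j, rfl⟩
        exact hW (Fin.le_last _) (p.2.2 j)
      show Nat.card ↑((W (Fin.last k) : Set V) \ (Submodule.span F (Set.range p.1) : Set V)) = _
      rw [Nat.card_coe_set_eq, Set.ncard_sdiff hle (Set.toFinite _)]
      have h1 := Module.natCard_eq_pow_finrank (K := F) (V := W (Fin.last k))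
      have h2 := Module.natCard_eq_pow_finrank (K := F)
        (V := Submodule.span F (Set.range p.1))
      rw [finrank_span_eq_card p.2.1, Fintype.card_fin, Nat.card_eq_fintype_card (α := F)] at h2
      rw [Nat.card_eq_fintype_card (α := F)] at h1
      rw [← Nat.card_coe_set_eq, ← Nat.card_coe_set_eq]
      exact congrArg₂ (· - ·) h1 h2
    rw [Nat.card_sigma, sum_congr rfl fun p _ => hfib p, sum_const, smul_eq_mul, card_univ,
      ← Nat.card_eq_fintype_card, ih (fun j => W j.castSucc)
        (fun a b h => hW (Fin.castSucc_le_castSucc_iff.2 h)), Fin.prod_univ_castSucc]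
    simp

variable {n : ℕ}

/-- The `q`-integer. -/
def qInt (q r : ℕ) : ℕ := ∑ l ∈ range r, q ^ l

/-- The `q`-factorial. -/
def qFact (q r : ℕ) : ℕ := ∏ j ∈ range r, qInt q (j + 1)

theorem qInt_mul_add_one (q r : ℕ) : qInt (q + 1) r * q + 1 = (q + 1) ^ r := by
  induction r with
  | zero => simp [qInt]
  | succ r ih => rw [qInt, sum_range_succ, ← qInt, pow_succ]; nlinarith [ih]

theorem pow_sub_pow {q s j : ℕ} (hq : 1 ≤ q) (h : j ≤ s) :
    q ^ s - q ^ j = q ^ j * ((q - 1) * qInt q (s - j)) := by
  obtain ⟨q, rfl⟩ : ∃ a, q = a + 1 := ⟨q - 1, by omega⟩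
  obtain ⟨d, rfl⟩ : ∃ d, s = j + d := ⟨s - j, by omega⟩
  rw [Nat.add_sub_cancel_left, Nat.add_sub_cancel, pow_add, ← qInt_mul_add_one q d]
  rw [Nat.mul_add, mul_one, Nat.add_sub_cancel]
  ring

theorem prod_block_length {M : Type*} [CommMonoid M] (f : ℕ → M) {μ : Fin n → ℕ}
    (hμ : ∑ k, μ k = n) :
    ∏ j : Fin n, f (psum μ ((label hμ j).val + 1) - j.val) =
      ∏ k, ∏ l ∈ range (μ k), f (l + 1) := by
  rw [← prod_fiberwise (s := univ) (g := label hμ)]
  refine prod_congr rfl fun k _ => ?_
  have hk : ∀ j : Fin n, label hμ j = k ↔ psum μ k.val ≤ j.val ∧ j.val < psum μ (k.val + 1) := by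
    intro j
    rw [← label_lt_iff hμ, ← not_lt, ← label_lt_iff hμ, Fin.ext_iff]
    show compLabel μ j = k.val ↔ _
    omega
  have hs := psum_succ μ k
  have hle := psum_le hμ (k.val + 1)
  refine prod_bij' (fun j _ => psum μ (k.val + 1) - 1 - j.val)
    (fun l hl => ⟨psum μ (k.val + 1) - 1 - l, by rw [mem_range] at hl; omega⟩) ?_ ?_ ?_ ?_ ?_
  · intro j hj
    have := (hk j).1 (mem_filter.1 hj).2
    rw [mem_range]; omega
  · intro l hl
    rw [mem_range] at hl
    refine mem_filter.2 ⟨mem_univ _, (hk _).2 ?_⟩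
    simp only
    omega
  · intro j hj
    have := (hk j).1 (mem_filter.1 hj).2
    apply Fin.ext
    simp only
    omega
  · intro l hl
    rw [mem_range] at hl
    simp only
    omega
  · intro j hj
    have := (hk j).1 (mem_filter.1 hj).2
    rw [(mem_filter.1 hj).2]
    congr 1
    omega

theorem card_parabolic {F : Type*} [Field F] [Fintype F] {μ : Fin n → ℕ} (hμ : ∑ k, μ k = n) :
    Nat.card (parabolicGL n F μ) =
      ∏ j : Fin n, (Fintype.card F ^ psum μ ((label hμ j).val + 1) - Fintype.card F ^ j.val) := by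
  let W : Fin n → Submodule F (Fin n → F) := fun j => Efirst F n (psum μ ((label hμ j).val + 1))
  have hW : Monotone W := by
    intro a b hab v hv i hi
    refine hv i (le_trans (psum_mono μ (Nat.succ_le_succ ?_)) hi)
    show compLabel μ a ≤ compLabel μ b
    by_contra hc
    have h1 : compLabel μ b < compLabel μ a := by omega
    obtain ⟨t, h1, h2⟩ := (compLabel_lt_iff μ a b).1 h1
    have : a.val ≤ b.val := hab
    omega
  have hmem : ∀ g : GL (Fin n) F, g ∈ parabolicGL n F μ ↔
      ∀ j, (g : Matrix (Fin n) (Fin n) F).col j ∈ W j := by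
    intro g
    constructor
    · intro h j i hi
      refine h ?_
      show compLabel μ j < compLabel μ i
      have h2 : ¬ compLabel μ i < (label hμ j).val + 1 := fun h3 =>
        absurd ((label_lt_iff hμ _ _).1 h3) (not_lt.2 hi)
      have h4 : (label hμ j).val = compLabel μ j := rfl
      omega
    · intro h i j hij
      refine h j i ?_
      by_contra hc
      have h1 : compLabel μ i < (label hμ j).val + 1 := (label_lt_iff hμ _ _).2 (not_le.1 hc)
      have h4 : (label hμ j).val = compLabel μ j := rfl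
      omega
  have h := card_indep_in_chain n W hW
  rw [prod_congr rfl fun j _ => by rw [finrank_Efirst (psum_le hμ _)]] at h
  rw [← h]
  refine Nat.card_congr ?_
  refine ((Matrix.equiv_GL_linearindependent n).subtypeEquiv (q := fun s => ∀ j, s.1 j ∈ W j)
    (fun g => hmem g)).trans ?_
  exact Equiv.subtypeSubtypeEquivSubtypeInter (fun s => LinearIndependent F s)
    (fun s => ∀ j, s j ∈ W j)

theorem index_mul_prod_qFact {F : Type*} [Field F] [Fintype F] {q : ℕ} (hq : Fintype.card F = q)
    {μ : Fin n → ℕ} (hμ : ∑ k, μ k = n) :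
    Nat.card (GL (Fin n) F ⧸ parabolicGL n F μ) * ∏ k, qFact q (μ k) = qFact q n := by
  subst hq
  set q := Fintype.card F
  have hq1 : 1 < q := Fintype.one_lt_card
  have h := (parabolicGL n F μ).index_mul_card
  rw [Subgroup.index_eq_card, Matrix.card_GL_field, card_parabolic hμ] at h
  rw [prod_congr rfl fun j _ => pow_sub_pow hq1.le (show j.val ≤ psum μ ((label hμ j).val + 1) from
      ((label_lt_iff hμ j _).1 (Nat.lt_succ_self _)).le),
    prod_congr rfl fun j _ => pow_sub_pow hq1.le (show j.val ≤ n from j.2.le)] at h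
  simp only [prod_mul_distrib, prod_const, card_univ, Fintype.card_fin] at h
  rw [prod_block_length (qInt q) hμ] at h
  have hpos : 0 < (∏ j : Fin n, q ^ j.val) * (q - 1) ^ n :=
    Nat.mul_pos (prod_pos fun j _ => pow_pos (by omega) _) (pow_pos (by omega) _)
  apply Nat.eq_of_mul_eq_mul_left hpos
  have h2 : ∏ j : Fin n, qInt q (n - j.val) = qFact q n := by
    rw [qFact, ← Fin.prod_univ_eq_prod_range, ← Equiv.prod_comp Fin.revPerm]
    refine prod_congr rfl fun j _ => ?_
    simp only [Fin.revPerm_apply, Fin.val_rev]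
    congr 1
    have := j.2
    omega
  rw [h2] at h
  calc _ = Nat.card (GL (Fin n) F ⧸ parabolicGL n F μ) *
        ((∏ j : Fin n, q ^ j.val) * ((q - 1) ^ n * ∏ k, ∏ l ∈ range (μ k), qInt q (l + 1))) := by
        simp only [qFact]; ring
    _ = _ := by rw [h]; ring

theorem qFact_pos {q : ℕ} (hq : 0 < q) (r : ℕ) : 0 < qFact q r :=
  prod_pos fun j _ => sum_pos (fun _ _ => pow_pos hq _) ⟨0, by simp⟩

theorem qInt_lt {q : ℕ} (hq : 0 < q) {a b : ℕ} (h : a < b) : qInt q a < qInt q b :=
  sum_lt_sum_of_subset (range_mono h.le) (i := a) (by simp [h]) (by simp) (pow_pos hq _)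
    (fun _ _ _ => Nat.zero_le _)

theorem sum_choose_two (n : ℕ) : ∑ j ∈ range n, j.choose 2 = n.choose 3 := by
  induction n with
  | zero => simp
  | succ n ih =>
    rw [sum_range_succ, ih, Nat.choose_succ_succ' n 2, add_comm]

theorem choose_three (n : ℕ) : n.choose 3 = n * (n - 1) * (n - 2) / 6 := by
  rw [Nat.choose_eq_descFactorial_div_factorial]
  congr 1
  simp [Nat.descFactorial]
  ring

theorem fixedPointCharacter_one {G : Type*} [Group G] (H : Subgroup G) :
    fixedPointCharacter H 1 = (Nat.card (G ⧸ H) : ℂ) := by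
  rw [fixedPointCharacter]
  congr 1
  exact Nat.card_congr (Equiv.subtypeUnivEquiv fun x => one_smul G x)

theorem comp_sum {ν : Fin n → ℕ} (hν : ∑ i, ν i = n) (κ : Equiv.Perm (Fin n))
    (hκ : ∀ i : Fin n, (κ i).val ≤ ν i + i.val) :
    ∑ i : Fin n, (ν i + i.val - (κ i).val) = n := by
  have h1 : ∑ i : Fin n, (ν i + i.val - (κ i).val) + ∑ i, (κ i).val =
      ∑ i, ν i + ∑ i : Fin n, i.val := by
    rw [← sum_add_distrib, ← sum_add_distrib]
    refine sum_congr rfl fun i _ => ?_
    have := hκ i
    omega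
  have h2 : ∑ i, (κ i).val = ∑ i : Fin n, i.val := Equiv.sum_comp κ (fun i : Fin n => i.val)
  omega

theorem prod_qInt_sub {q lam j : ℕ} :
    ∀ _ : j ≤ lam, qFact q (lam - j) * ∏ m ∈ range j, qInt q (lam - m) = qFact q lam := by
  induction j with
  | zero => intro _; simp
  | succ j ih =>
    intro h
    rw [prod_range_succ, ← ih (by omega), mul_comm (∏ m ∈ range j, _), ← mul_assoc]
    congr 1
    rw [show lam - j = lam - (j + 1) + 1 by omega, qFact, qFact, prod_range_succ]

theorem degree_formula {F : Type*} [Field F] [Fintype F] {q : ℕ} (hq : Fintype.card F = q)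
    (ν : Fin n → ℕ) (hν : ∑ i, ν i = n) :
    Cfsg.unipotentCharacterGL n F ν 1 * (q : ℂ) ^ (n * (n - 1) * (n - 2) / 6) *
        ∏ i : Fin n, (qFact q (ν i + i.val) : ℂ) =
      (qFact q n : ℂ) * ∏ i : Fin n, ∏ j ∈ Ioi i,
        ((qInt q (ν j + j.val) : ℂ) - (qInt q (ν i + i.val) : ℂ)) := by
  classical
  set lam : Fin n → ℕ := fun i => ν i + i.val with hlam
  let M : Matrix (Fin n) (Fin n) ℂ :=
    Matrix.of fun i j => ∏ m ∈ range j.val, (qInt q (lam i - m) : ℂ)
  have hval : Cfsg.unipotentCharacterGL n F ν 1 * ∏ i : Fin n, (qFact q (lam i) : ℂ) =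
      (qFact q n : ℂ) * M.det := by
    rw [unipotentCharacterGL, sum_mul, ← Matrix.det_transpose M, Matrix.det_apply, mul_sum]
    refine sum_congr rfl fun κ _ => ?_
    simp only [Matrix.transpose_apply, M, Matrix.of_apply, Units.smul_def, zsmul_eq_mul]
    by_cases hκ : ∀ i : Fin n, (κ i).val ≤ ν i + i.val
    · rw [if_pos hκ, fixedPointCharacter_one]
      have h := index_mul_prod_qFact (F := F) hq (comp_sum hν κ hκ)
      have hfac : (∏ i : Fin n, (qFact q (lam i) : ℂ)) =
          (∏ i : Fin n, (qFact q (ν i + i.val - (κ i).val) : ℂ)) *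
            ∏ i : Fin n, ∏ m ∈ range (κ i).val, (qInt q (lam i - m) : ℂ) := by
        rw [← prod_mul_distrib]
        refine prod_congr rfl fun i _ => ?_
        rw [← prod_qInt_sub (q := q) (hκ i)]
        push_cast
        rfl
      rw [hfac, ← h]
      push_cast
      ring
    · rw [if_neg hκ, zero_mul]
      push Not at hκ
      obtain ⟨i, hi⟩ := hκ
      rw [prod_eq_zero (mem_univ i) (prod_eq_zero (i := lam i) (mem_range.2 hi) (by simp [qInt])),
        mul_zero, mul_zero]
  have hdet : (Matrix.vandermonde fun i => (qInt q (lam i) : ℂ)).det =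
      (q : ℂ) ^ (n * (n - 1) * (n - 2) / 6) * M.det := by
    rw [Matrix.det_eval_matrixOfPolynomials_eq_det_vandermonde _
      (fun j : Fin n => ∏ m ∈ range j.val, (Polynomial.X - Polynomial.C (qInt q m : ℂ)))
      (fun j => by
        rw [Polynomial.natDegree_prod_of_monic _ _ fun m _ => Polynomial.monic_X_sub_C _]
        simp only [Polynomial.natDegree_X_sub_C]
        simp)
      (fun j => Polynomial.monic_prod_of_monic _ _ fun m _ => Polynomial.monic_X_sub_C _)]
    rw [← choose_three, ← sum_choose_two, ← Fin.sum_univ_eq_sum_range, ← prod_pow_eq_pow_sum,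
      ← Matrix.det_mul_row]
    congr 1
    refine Matrix.ext fun i j => ?_
    simp only [Matrix.of_apply, M, Polynomial.eval_prod, Polynomial.eval_sub, Polynomial.eval_X,
      Polynomial.eval_C]
    rw [Nat.choose_two_right, ← sum_range_id, ← prod_pow_eq_pow_sum, ← prod_mul_distrib]
    by_cases hj : j.val ≤ lam i
    · refine prod_congr rfl fun m hm => ?_
      have hm' : m ≤ lam i := by rw [mem_range] at hm; omega
      have : qInt q (lam i) = qInt q m + q ^ m * qInt q (lam i - m) := by
        conv_lhs => rw [← Nat.add_sub_cancel' hm']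
        rw [qInt, qInt, qInt, sum_range_add, mul_sum]
        congr 1
        exact sum_congr rfl fun l _ => pow_add _ _ _
      rw [this]
      push_cast
      ring
    · rw [prod_eq_zero (i := lam i) (mem_range.2 (not_le.1 hj)) (by simp),
        prod_eq_zero (i := lam i) (mem_range.2 (not_le.1 hj)) (by simp [qInt])]
  rw [Matrix.det_vandermonde] at hdet
  rw [hdet, mul_right_comm, hval]
  ring

end Cfsg.FlagCharacters
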