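import Mathlib

/-!
The alternating chain sum (Moebius function) of the lattice of subspaces invariant under a
semisimple endomorphism of a finite vector space.
-/

set_option autoImplicit false

namespace Cfsg.FlagCharacters.InvMoebius

open Polynomial Finset

section Poset

variable {α : Type*} [PartialOrder α] [OrderBot α] [Fintype α] [DecidableEq α]

open scoped Classical in
/-- The chains above the bottom element with greatest element `U`. -/
noncomputable def chainsTo (U : α) : Finset (Finset α) :=
  univ.filter fun C => IsChain (· ≤ ·) (C : Set α) ∧ (∀ W ∈ C, W ≠ ⊥ ∧ W ≤ U) ∧ (U ≠ ⊥ → U ∈ C)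

/-- The alternating number of chains up to `U`. -/
noncomputable def chainSum (U : α) : ℤ := ∑ C ∈ chainsTo U, (-1 : ℤ) ^ C.card

theorem mem_chainsTo {U : α} {C : Finset α} : C ∈ chainsTo U ↔
    IsChain (· ≤ ·) (C : Set α) ∧ (∀ W ∈ C, W ≠ ⊥ ∧ W ≤ U) ∧ (U ≠ ⊥ → U ∈ C) := by
  simp [chainsTo]

theorem chainSum_bot : chainSum (⊥ : α) = 1 := by
  have h : chainsTo (⊥ : α) = {∅} := by
    ext C
    rw [mem_chainsTo, mem_singleton]
    constructor
    · rintro ⟨-, h2, -⟩
      exact eq_empty_of_forall_notMem fun W hW => (h2 W hW).1 (le_bot_iff.1 (h2 W hW).2)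
    · rintro rfl
      simp
  rw [chainSum, h, sum_singleton, card_empty, pow_zero]

open scoped Classical in
theorem chainSum_rec {U : α} (hU : U ≠ ⊥) :
    chainSum U = -∑ W ∈ univ.filter (fun W => W < U), chainSum W := by
  unfold chainSum
  rw [← Finset.sum_neg_distrib]
  simp only [← Finset.sum_neg_distrib]
  rw [Finset.sum_sigma']
  symm
  refine Finset.sum_bij (fun x _ => insert U x.2) ?_ ?_ ?_ ?_
  · rintro ⟨W, C⟩ hx
    simp only [mem_sigma, mem_filter, mem_univ, true_and, mem_chainsTo] at hx
    obtain ⟨hW, hc, hle, -⟩ := hx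
    refine mem_chainsTo.2 ⟨?_, ?_, fun _ => mem_insert_self _ _⟩
    · rw [coe_insert]
      exact hc.insert fun b hb _ => Or.inr ((hle b hb).2.trans hW.le)
    · intro V hV
      rcases mem_insert.1 hV with rfl | hV
      · exact ⟨hU, le_rfl⟩
      · exact ⟨(hle V hV).1, (hle V hV).2.trans hW.le⟩
  · rintro ⟨W, C⟩ hx ⟨W', C'⟩ hx' he
    simp only [mem_sigma, mem_filter, mem_univ, true_and, mem_chainsTo] at hx hx'
    obtain ⟨hW, -, hle, htop⟩ := hx
    obtain ⟨hW', -, hle', htop'⟩ := hx'
    have hUC : U ∉ C := fun h => not_le_of_gt hW (hle U h).2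
    have hUC' : U ∉ C' := fun h => not_le_of_gt hW' (hle' U h).2
    have hCC : C = C' := by
      have := congrArg (fun S : Finset α => S.erase U) he
      simpa [erase_insert, hUC, hUC'] using this
    subst hCC
    have hWW : W = W' := by
      refine le_antisymm ?_ ?_
      · rcases eq_or_ne W ⊥ with h | h
        · simp [h]
        · exact (hle' W (htop h)).2
      · rcases eq_or_ne W' ⊥ with h | h
        · simp [h]
        · exact (hle W' (htop' h)).2
    subst hWW
    rfl
  · intro C hC
    rw [mem_chainsTo] at hC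
    obtain ⟨hc, hle, htop⟩ := hC
    set D := C.erase U with hD
    have hins : insert U D = C := insert_erase (htop hU)
    rcases D.eq_empty_or_nonempty with h0 | hne
    · refine ⟨⟨⊥, ∅⟩, ?_, by rw [← hins, h0]⟩
      simp [mem_chainsTo, bot_lt_iff_ne_bot.2 hU]
    · obtain ⟨W, hWD, hmax⟩ := D.exists_maximal hne
      have hWle : ∀ V ∈ D, V ≤ W := by
        intro V hV
        rcases hc.total (mem_of_mem_erase hV) (mem_of_mem_erase hWD) with h | h
        · exact h
        · exact hmax hV h
      refine ⟨⟨W, D⟩, ?_, hins⟩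
      have h1 := hle W (mem_of_mem_erase hWD)
      simp only [mem_sigma, mem_filter, mem_univ, true_and, mem_chainsTo]
      exact ⟨lt_of_le_of_ne h1.2 (ne_of_mem_erase hWD),
        hc.mono (fun V hV => mem_of_mem_erase hV),
        fun V hV => ⟨(hle V (mem_of_mem_erase hV)).1, hWle V hV⟩, fun _ => hWD⟩
  · rintro ⟨W, C⟩ hx
    simp only [mem_sigma, mem_filter, mem_univ, true_and, mem_chainsTo] at hx
    have hUC : U ∉ C := fun h => not_le_of_gt hx.1 (hx.2.2.1 U h).2
    rw [card_insert_of_notMem hUC, pow_succ]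
    ring

open scoped Classical in
theorem sum_le_chainSum {U : α} (hU : U ≠ ⊥) :
    ∑ W ∈ univ.filter (fun W => W ≤ U), chainSum W = 0 := by
  have h : univ.filter (fun W => W ≤ U) = insert U (univ.filter (fun W => W < U)) := by
    ext W
    simp only [mem_filter, mem_univ, true_and, mem_insert]
    exact le_iff_eq_or_lt
  rw [h, sum_insert (by simp), chainSum_rec hU]
  ring

end Poset

section Weisner

variable {α : Type*} [Lattice α] [OrderBot α] [Fintype α] [DecidableEq α]

open scoped Classical in
theorem weisner {S : α} (hS : S ≠ ⊥) : ∀ U : α, S ≤ U →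
    ∑ W ∈ univ.filter (fun W => W ⊔ S = U), chainSum W = 0 := by
  intro U
  induction U using WellFoundedLT.induction with | _ U ih => ?_
  intro hSU
  have hU : U ≠ ⊥ := fun h => hS (le_bot_iff.1 (h ▸ hSU))
  have h0 := sum_le_chainSum hU
  rw [← Finset.sum_fiberwise_of_maps_to (t := univ.filter (fun T => S ≤ T ∧ T ≤ U))
    (g := fun W => W ⊔ S) (fun W hW => by
      simp only [mem_filter, mem_univ, true_and] at hW ⊢
      exact ⟨le_sup_right, sup_le hW hSU⟩)] at h0
  rw [Finset.sum_eq_single_of_mem U (by simp [hSU])] at h0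
  · refine Eq.trans (Finset.sum_congr ?_ fun _ _ => rfl) h0
    ext W
    simp only [mem_filter, mem_univ, true_and]
    exact ⟨fun h => ⟨h ▸ le_sup_left, h⟩, fun h => h.2⟩
  · intro T hT hne
    simp only [mem_filter, mem_univ, true_and] at hT
    refine Eq.trans (Finset.sum_congr ?_ fun _ _ => rfl) (ih T (lt_of_le_of_ne hT.2 hne) hT.1)
    ext W
    simp only [mem_filter, mem_univ, true_and]
    exact ⟨fun h => h.2, fun h => ⟨(h ▸ le_sup_left : W ≤ T).trans hT.2, h⟩⟩

end Weisner

section Endo

variable {F V : Type*} [Field F] [AddCommGroup V] [Module F V] [FiniteDimensional F V]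

/-- An endomorphism without proper nonzero invariant subspaces. -/
def IsSimpleEnd (b : Module.End F V) : Prop :=
  Nontrivial V ∧ ∀ W : Submodule F V, (∀ v ∈ W, b v ∈ W) → W = ⊥ ∨ W = ⊤

/-- Evaluation of polynomials in `b` at a vector. -/
noncomputable def evalAt (b : Module.End F V) (v : V) : F[X] →ₗ[F] V :=
  (LinearMap.applyₗ v).comp (aeval b).toLinearMap

omit [FiniteDimensional F V] in
theorem evalAt_apply (b : Module.End F V) (v : V) (p : F[X]) : evalAt b v p = aeval b p v := rfl

omit [FiniteDimensional F V] in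
theorem evalAt_X_mul (b : Module.End F V) (v : V) (p : F[X]) :
    evalAt b v (X * p) = b (evalAt b v p) := by
  rw [evalAt_apply, evalAt_apply, map_mul, aeval_X]
  rfl

omit [FiniteDimensional F V] in
theorem range_evalAt {b : Module.End F V} (hb : IsSimpleEnd b) {v : V} (hv : v ≠ 0) :
    LinearMap.range (evalAt b v) = ⊤ := by
  refine (hb.2 _ ?_).resolve_left ?_
  · rintro _ ⟨p, rfl⟩
    exact ⟨X * p, evalAt_X_mul b v p⟩
  · intro h
    refine hv ((Submodule.eq_bot_iff _).1 h v ⟨1, ?_⟩)
    simp [evalAt_apply]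

theorem minpoly_irreducible {b : Module.End F V} (hb : IsSimpleEnd b) :
    Irreducible (minpoly F b) := by
  haveI := hb.1
  haveI : Nontrivial (Module.End F V) := inferInstance
  have hint : IsIntegral F b := Algebra.IsIntegral.isIntegral b
  refine ⟨minpoly.not_isUnit F b, fun {g h} hgh => ?_⟩
  have key : ∀ p : F[X], LinearMap.ker (aeval b p) = ⊥ ∨ aeval b p = 0 := by
    intro p
    rcases hb.2 (LinearMap.ker (aeval b p)) (fun v hv => by
      rw [LinearMap.mem_ker] at hv ⊢
      have hcomm : aeval b p * b = b * aeval b p := by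
        have := congrArg (aeval b) (mul_comm p (X : F[X]))
        rwa [map_mul, map_mul, aeval_X] at this
      rw [show aeval b p (b v) = (aeval b p * b) v from rfl, hcomm]
      show b (aeval b p v) = 0
      rw [hv, map_zero]) with h1 | h1
    · exact Or.inl h1
    · exact Or.inr (LinearMap.ker_eq_top.1 h1)
  have hne : minpoly F b ≠ 0 := minpoly.ne_zero hint
  rw [hgh] at hne
  obtain ⟨hg, hh⟩ := mul_ne_zero_iff.1 hne
  have unit_of : ∀ {g h : F[X]}, minpoly F b = g * h → g ≠ 0 → h ≠ 0 → aeval b g = 0 → IsUnit h := by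
    intro g h e hg hh h0
    obtain ⟨c, hc⟩ := e ▸ minpoly.dvd F b h0
    refine IsUnit.of_mul_eq_one c ?_
    refine mul_left_cancel₀ hg ?_
    rw [← mul_assoc, ← hc, mul_one]
  rcases key g with h1 | h1
  · have h2 : aeval b h = 0 := by
      apply LinearMap.ext
      intro v
      have : aeval b g (aeval b h v) = 0 := by
        rw [show aeval b g (aeval b h v) = (aeval b g * aeval b h) v from rfl, ← map_mul, ← hgh,
          minpoly.aeval]
        rfl
      exact (LinearMap.ker_eq_bot'.1 h1) _ this
    exact Or.inl (unit_of (hgh.trans (mul_comm _ _)) hh hg h2)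
  · exact Or.inr (unit_of hgh hg hh h1)

theorem charpoly_eq_minpoly {b : Module.End F V} (hb : IsSimpleEnd b) :
    b.charpoly = minpoly F b := by
  haveI := hb.1
  obtain ⟨v, hv⟩ := exists_ne (0 : V)
  have hint : IsIntegral F b := Algebra.IsIntegral.isIntegral b
  have hm := minpoly.monic hint
  refine (eq_of_monic_of_dvd_of_natDegree_le hm (LinearMap.charpoly_monic b)
    (LinearMap.minpoly_dvd_charpoly b) ?_)
  rw [LinearMap.charpoly_natDegree]
  set d := (minpoly F b).natDegree
  have hs : Function.Surjective ((evalAt b v).comp (degreeLT F d).subtype) := by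
    intro w
    obtain ⟨p, hp⟩ := LinearMap.range_eq_top.1 (range_evalAt hb hv) w
    refine ⟨⟨p %ₘ minpoly F b, mem_degreeLT.2 ?_⟩, ?_⟩
    · exact (degree_modByMonic_lt _ hm).trans_eq (degree_eq_natDegree hm.ne_zero)
    · rw [LinearMap.comp_apply, Submodule.subtype_apply, evalAt_apply,
        aeval_modByMonic_eq_self_of_root (minpoly.aeval F b)]
      exact hp
  calc Module.finrank F V = Module.finrank F (LinearMap.range
        ((evalAt b v).comp (degreeLT F d).subtype)) := by
        rw [LinearMap.range_eq_top.2 hs, finrank_top]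
    _ ≤ Module.finrank F (degreeLT F d) := by
        haveI : FiniteDimensional F (degreeLT F d) :=
          Module.Finite.equiv (degreeLTEquiv F d).symm
        exact LinearMap.finrank_range_le _
    _ = d := by rw [(degreeLTEquiv F d).finrank_eq, Module.finrank_fin_fun]

end Endo

section Hom

variable {F : Type*} [Field F]

/-- The linear maps commuting with the two endomorphisms. -/
abbrev EqHom {U W : Type*} [AddCommGroup U] [Module F U] [AddCommGroup W] [Module F W]
    (b : Module.End F U) (c : Module.End F W) : Type _ :=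
  {φ : U →ₗ[F] W // ∀ u, φ (b u) = c (φ u)}

variable {U W : Type*} [AddCommGroup U] [Module F U] [AddCommGroup W] [Module F W]
  {b : Module.End F U} {c : Module.End F W}

theorem EqHom.aeval_comm (φ : EqHom b c) (p : F[X]) (u : U) :
    φ.1 (aeval b p u) = aeval c p (φ.1 u) := by
  induction p using Polynomial.induction_on' with
  | add p q hp hq => simp [map_add, hp, hq]
  | monomial n a =>
    simp only [aeval_monomial, Module.End.mul_apply, Module.algebraMap_end_apply, map_smul]
    congr 1
    induction n generalizing u with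
    | zero => rfl
    | succ n ih => simp only [pow_succ, Module.End.mul_apply, ih, φ.2]

theorem card_eqHom_of_ne [FiniteDimensional F U] [FiniteDimensional F W] (hb : IsSimpleEnd b)
    (hc : IsSimpleEnd c) (hne : b.charpoly ≠ c.charpoly) : Nat.card (EqHom b c) = 1 := by
  rw [Nat.card_eq_one_iff_unique]
  refine ⟨⟨fun φ ψ => ?_⟩, ⟨⟨0, fun u => by simp⟩⟩⟩
  have key : ∀ φ : EqHom b c, φ.1 = 0 := by
    intro φ
    have h1 := minpoly_irreducible hb
    have h2 := minpoly_irreducible hc
    rw [charpoly_eq_minpoly hb, charpoly_eq_minpoly hc] at hne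
    haveI := hb.1
    haveI := hc.1
    have hcop : IsCoprime (minpoly F b) (minpoly F c) :=
      h1.coprime_iff_not_dvd.2 fun hd => hne
        (eq_of_monic_of_associated (minpoly.monic (Algebra.IsIntegral.isIntegral b))
          (minpoly.monic (Algebra.IsIntegral.isIntegral c)) (h1.associated_of_dvd h2 hd))
    obtain ⟨s, t, hst⟩ := hcop
    ext u
    have e := φ.aeval_comm (s * minpoly F b) u
    have e2 : aeval c (s * minpoly F b) = 1 := by
      have := congrArg (aeval c) hst
      rwa [map_add, map_mul (aeval c) t, minpoly.aeval, mul_zero, add_zero, map_one] at this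
    rw [e2, map_mul, minpoly.aeval, mul_zero] at e
    simpa using e.symm
  exact Subtype.ext ((key φ).trans (key ψ).symm)

theorem card_eqHom_of_eq [FiniteDimensional F U] [FiniteDimensional F W] (hb : IsSimpleEnd b)
    (hc : IsSimpleEnd c) (he : b.charpoly = c.charpoly) : Nat.card (EqHom b c) = Nat.card W := by
  haveI := hb.1
  obtain ⟨v, hv⟩ := exists_ne (0 : U)
  have hker : ∀ p : F[X], evalAt b v p = 0 → minpoly F b ∣ p := by
    intro p hp
    by_contra hd
    obtain ⟨s, t, hst⟩ := (minpoly_irreducible hb).coprime_iff_not_dvd.2 hd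
    refine hv ?_
    have := congrArg (fun r => aeval b r v) hst
    simp only [map_add, map_mul, minpoly.aeval, mul_zero, zero_add, map_one,
      Module.End.mul_apply, Module.End.one_apply] at this
    rw [evalAt_apply] at hp
    rw [hp, map_zero] at this
    exact this.symm
  refine Nat.card_eq_of_bijective (fun φ : EqHom b c => φ.1 v) ⟨fun φ ψ h => ?_, fun w => ?_⟩
  · refine Subtype.ext (LinearMap.ext fun u => ?_)
    obtain ⟨p, rfl⟩ := LinearMap.range_eq_top.1 (range_evalAt hb hv) u
    show φ.1 (aeval b p v) = ψ.1 (aeval b p v)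
    rw [φ.aeval_comm, ψ.aeval_comm]
    exact congrArg _ h
  · have hle : LinearMap.ker (evalAt b v) ≤ LinearMap.ker (evalAt c w) := by
      intro p hp
      obtain ⟨r, rfl⟩ := hker p hp
      rw [LinearMap.mem_ker, evalAt_apply, ← charpoly_eq_minpoly hb, he, map_mul,
        LinearMap.aeval_self_charpoly, zero_mul]
      rfl
    let e := LinearMap.quotKerEquivOfSurjective (evalAt b v)
      (LinearMap.range_eq_top.1 (range_evalAt hb hv))
    let φ : U →ₗ[F] W := ((LinearMap.ker (evalAt b v)).liftQ (evalAt c w) hle).comp e.symm.toLinearMap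
    have hφ : ∀ p, φ (evalAt b v p) = evalAt c w p := by
      intro p
      show ((LinearMap.ker (evalAt b v)).liftQ (evalAt c w) hle) (e.symm (evalAt b v p)) = _
      rw [show e.symm (evalAt b v p) = Submodule.Quotient.mk p by
        rw [LinearEquiv.symm_apply_eq]; rfl]
      rfl
    refine ⟨⟨φ, fun u => ?_⟩, ?_⟩
    · obtain ⟨p, rfl⟩ := LinearMap.range_eq_top.1 (range_evalAt hb hv) u
      rw [← evalAt_X_mul, hφ, hφ, evalAt_X_mul]
    · show φ v = w
      have := hφ 1
      simpa [evalAt_apply] using this

end Hom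

section Lattice

variable {F V : Type*} [Field F] [AddCommGroup V] [Module F V] [Finite V]
  {a : Module.End F V}

/-- The endomorphism of an invariant subspace. -/
noncomputable def res (U : a.invtSubmodule) : Module.End F U.1 :=
  a.restrict (p := U.1) (q := U.1) fun v hv => U.2 hv

theorem res_apply (U : a.invtSubmodule) (u : U.1) : (res U u : V) = a u := rfl

omit [Finite V] in
theorem coe_sup' (U W : a.invtSubmodule) : ((U ⊔ W : a.invtSubmodule) : Submodule F V) = U.1 ⊔ W.1 := rfl

omit [Finite V] in
theorem coe_inf' (U W : a.invtSubmodule) : ((U ⊓ W : a.invtSubmodule) : Submodule F V) = U.1 ⊓ W.1 := rfl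

theorem isSimpleEnd_res {S : a.invtSubmodule} (hS : IsAtom S) : IsSimpleEnd (res S) := by
  constructor
  · rw [Submodule.nontrivial_iff_ne_bot]
    exact fun h => hS.1 (Subtype.ext h)
  · intro W hW
    have hinv : W.map S.1.subtype ∈ a.invtSubmodule := by
      rintro _ ⟨u, hu, rfl⟩
      exact ⟨res S u, hW u hu, rfl⟩
    have hle : (⟨_, hinv⟩ : a.invtSubmodule) ≤ S := Submodule.map_subtype_le _ _
    rcases hS.le_iff.1 hle with h | h
    · left
      have h' : W.map S.1.subtype = ⊥ := congrArg Subtype.val h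
      exact Submodule.map_injective_of_injective S.1.injective_subtype
        (h'.trans (Submodule.map_bot _).symm)
    · right
      have h' : W.map S.1.subtype = S.1 := congrArg Subtype.val h
      exact Submodule.map_injective_of_injective S.1.injective_subtype
        (h'.trans (Submodule.map_subtype_top _).symm)

/-- An invariant subspace as the sum of two complementary ones. -/
noncomputable def decomp {U W S : a.invtSubmodule} (h1 : W ⊔ S = U) (h2 : W ⊓ S = ⊥) :
    (W.1 × S.1) ≃ₗ[F] U.1 :=
  LinearEquiv.ofBijective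
    (((W.1.subtype.coprod S.1.subtype)).codRestrict U.1 fun x => by
      rw [← h1, coe_sup']
      exact add_mem (Submodule.mem_sup_left x.1.2) (Submodule.mem_sup_right x.2.2))
    ⟨by
      rw [← LinearMap.ker_eq_bot, LinearMap.ker_codRestrict, LinearMap.ker_eq_bot']
      rintro ⟨⟨w, hw⟩, ⟨s, hs⟩⟩ h
      change w + s = 0 at h
      have hb : w ∈ (W ⊓ S : a.invtSubmodule).1 := by
        refine ⟨hw, ?_⟩
        rw [eq_neg_of_add_eq_zero_left h]
        exact S.1.neg_mem hs
      rw [h2] at hb
      have hw0 : w = 0 := hb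
      simp only [Prod.mk_eq_zero, Submodule.mk_eq_zero]
      exact ⟨hw0, by simpa [hw0] using h⟩,
    fun u => by
      have hu : (u : V) ∈ W.1 ⊔ S.1 := by rw [← coe_sup', h1]; exact u.2
      obtain ⟨w, hw, s, hs, h⟩ := Submodule.mem_sup.1 hu
      exact ⟨(⟨w, hw⟩, ⟨s, hs⟩), Subtype.ext h⟩⟩

theorem decomp_apply {U W S : a.invtSubmodule} (h1 : W ⊔ S = U) (h2 : W ⊓ S = ⊥)
    (x : W.1 × S.1) : (decomp h1 h2 x : V) = (x.1 : V) + x.2 := rfl

theorem decomp_comm {U W S : a.invtSubmodule} (h1 : W ⊔ S = U) (h2 : W ⊓ S = ⊥)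
    (x : W.1 × S.1) : decomp h1 h2 ((res W).prodMap (res S) x) = res U (decomp h1 h2 x) := by
  apply Subtype.ext
  rw [decomp_apply, res_apply, decomp_apply, map_add]
  rfl

theorem charpoly_mul {U W S : a.invtSubmodule} (h1 : W ⊔ S = U) (h2 : W ⊓ S = ⊥) :
    (res U).charpoly = (res W).charpoly * (res S).charpoly := by
  rw [← LinearMap.charpoly_prodMap, ← (decomp h1 h2).charpoly_conj ((res W).prodMap (res S))]
  congr 1
  apply LinearMap.ext
  intro u
  rw [LinearEquiv.conj_apply_apply, decomp_comm, LinearEquiv.apply_symm_apply]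

theorem charpoly_bot : (res (⊥ : a.invtSubmodule)).charpoly = 1 := by
  apply eq_one_of_monic_natDegree_zero (LinearMap.charpoly_monic _)
  rw [LinearMap.charpoly_natDegree]
  exact finrank_bot F V

theorem exists_complement (hss : a.IsSemisimple) {U S : a.invtSubmodule} (h : S ≤ U) :
    ∃ W, W ⊔ S = U ∧ W ⊓ S = ⊥ := by
  obtain ⟨C, hC⟩ := Module.End.isSemisimple_iff'.1 hss S
  refine ⟨C ⊓ U, ?_, ?_⟩
  · apply Subtype.ext
    rw [coe_sup', coe_inf', sup_comm, ← sup_inf_assoc_of_le C.1 (show S.1 ≤ U.1 from h),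
      ← coe_sup', hC.sup_eq_top]
    exact top_inf_eq _
  · exact le_bot_iff.1 ((inf_le_inf_right _ inf_le_left).trans (inf_comm C S ▸ hC.inf_eq_bot).le)

theorem card_eqHom_prod {U W S : a.invtSubmodule} (h1 : W ⊔ S = U) (h2 : W ⊓ S = ⊥)
    (T : a.invtSubmodule) :
    Nat.card (EqHom (res U) (res T)) =
      Nat.card (EqHom (res W) (res T)) * Nat.card (EqHom (res S) (res T)) := by
  rw [← Nat.card_prod]
  let e := decomp h1 h2
  refine Nat.card_congr
    { toFun := fun φ =>
        (⟨(φ.1.comp e.toLinearMap).comp (LinearMap.inl F W.1 S.1), fun w => by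
            show φ.1 (e (res W w, 0)) = res T (φ.1 (e (w, 0)))
            rw [← φ.2, ← decomp_comm h1 h2]
            simp [e]⟩,
          ⟨(φ.1.comp e.toLinearMap).comp (LinearMap.inr F W.1 S.1), fun s => by
            show φ.1 (e (0, res S s)) = res T (φ.1 (e (0, s)))
            rw [← φ.2, ← decomp_comm h1 h2]
            simp [e]⟩)
      invFun := fun p => ⟨(p.1.1.coprod p.2.1).comp e.symm.toLinearMap, fun u => by
        obtain ⟨x, rfl⟩ := e.surjective u
        rw [← decomp_comm h1 h2]
        simp [e, p.1.2, p.2.2]⟩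
      left_inv := fun φ => by
        refine Subtype.ext (LinearMap.ext fun u => ?_)
        obtain ⟨x, rfl⟩ := e.surjective u
        simp only [LinearMap.comp_apply, LinearEquiv.coe_coe, LinearEquiv.symm_apply_apply,
          LinearMap.coprod_apply, LinearMap.inl_apply, LinearMap.inr_apply, ← map_add]
        simp
      right_inv := fun p => by
        refine Prod.ext (Subtype.ext (LinearMap.ext fun w => ?_))
          (Subtype.ext (LinearMap.ext fun s => ?_)) <;> simp }

theorem card_eqHom (hss : a.IsSemisimple) [DecidableEq F] [DecidableEq F[X]] {S : a.invtSubmodule} (hS : IsAtom S) :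
    ∀ U : a.invtSubmodule, Nat.card (EqHom (res U) (res S)) =
      Nat.card F ^ ((res S).charpoly.natDegree *
        (UniqueFactorizationMonoid.normalizedFactors (res U).charpoly).count (res S).charpoly) := by
  have hs := isSimpleEnd_res hS
  intro U
  induction U using WellFoundedLT.induction with | _ U ih => ?_
  rcases IsAtomic.eq_bot_or_exists_atom_le U with rfl | ⟨T, hT, hTU⟩
  · rw [charpoly_bot, UniqueFactorizationMonoid.normalizedFactors_one, Multiset.count_zero,
      mul_zero, pow_zero, Nat.card_eq_one_iff_unique]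
    haveI : Subsingleton ((⊥ : a.invtSubmodule) : Submodule F V) :=
      inferInstanceAs (Subsingleton (⊥ : Submodule F V))
    exact ⟨⟨fun φ ψ => Subtype.ext (LinearMap.ext fun u => by
      rw [Subsingleton.elim u 0, map_zero, map_zero])⟩, ⟨⟨0, fun u => by simp⟩⟩⟩
  · have ht := isSimpleEnd_res hT
    obtain ⟨W, h1, h2⟩ := exists_complement hss hTU
    have hWU : W < U := by
      refine lt_of_le_of_ne (h1 ▸ le_sup_left) fun he => hT.1 ?_
      rw [← h2, he, inf_eq_right.2 hTU]
    have hirr : Irreducible (res T).charpoly := by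
      rw [charpoly_eq_minpoly ht]; exact minpoly_irreducible ht
    rw [card_eqHom_prod h1 h2, ih W hWU, charpoly_mul h1 h2,
      UniqueFactorizationMonoid.normalizedFactors_mul (LinearMap.charpoly_monic _).ne_zero
        (LinearMap.charpoly_monic _).ne_zero,
      UniqueFactorizationMonoid.normalizedFactors_irreducible hirr,
      (LinearMap.charpoly_monic _).normalize_eq_self, Multiset.count_add]
    by_cases he : (res T).charpoly = (res S).charpoly
    · rw [card_eqHom_of_eq ht hs he, he, Multiset.count_singleton_self, mul_add, mul_one, pow_add,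
        LinearMap.charpoly_natDegree, Module.natCard_eq_pow_finrank (K := F) (V := S.1)]
    · rw [card_eqHom_of_ne ht hs he, mul_one, Multiset.count_singleton, if_neg (Ne.symm he),
        add_zero]

/-- The complements of `S` in `U` correspond to the equivariant maps from one of them to `S`. -/
theorem card_complements {U W S : a.invtSubmodule} (h1 : W ⊔ S = U) (h2 : W ⊓ S = ⊥) :
    Nat.card {X : a.invtSubmodule // X ⊔ S = U ∧ X ⊓ S = ⊥} =
      Nat.card (EqHom (res W) (res S)) := by
  have hWU : W.1 ≤ U.1 := (h1 ▸ le_sup_left : W ≤ U)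
  let g : EqHom (res W) (res S) → Submodule F V :=
    fun φ => LinearMap.range (W.1.subtype + S.1.subtype.comp φ.1)
  have hgU : ∀ φ, g φ ≤ U.1 := by
    rintro φ _ ⟨w, rfl⟩
    exact add_mem (hWU w.2) ((h1 ▸ le_sup_right : S ≤ U) (φ.1 w).2)
  have hinv : ∀ φ, g φ ∈ a.invtSubmodule := by
    rintro φ _ ⟨w, rfl⟩
    refine ⟨res W w, ?_⟩
    simp [φ.2, res_apply]
  have hzero : ∀ w : V, w ∈ W.1 → w ∈ S.1 → w = 0 := fun w hw hs => by
    have : w ∈ (W ⊓ S : a.invtSubmodule).1 := ⟨hw, hs⟩
    rw [h2] at this
    exact this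
  have hcomp : ∀ φ, (⟨g φ, hinv φ⟩ : a.invtSubmodule) ⊔ S = U ∧
      (⟨g φ, hinv φ⟩ : a.invtSubmodule) ⊓ S = ⊥ := by
    intro φ
    constructor
    · apply Subtype.ext
      rw [coe_sup']
      refine le_antisymm (sup_le (hgU φ) ((h1 ▸ le_sup_right : S ≤ U))) ?_
      rw [← h1, coe_sup']
      refine sup_le (fun w hw => ?_) le_sup_right
      rw [Submodule.mem_sup]
      exact ⟨_, ⟨⟨w, hw⟩, rfl⟩, -(φ.1 ⟨w, hw⟩ : V), S.1.neg_mem (φ.1 _).2, by simp⟩
    · apply Subtype.ext
      refine (Submodule.eq_bot_iff _).2 ?_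
      rintro x ⟨⟨w, rfl⟩, hx⟩
      have hw : (w : V) ∈ S.1 := by
        simpa using S.1.sub_mem hx (φ.1 w).2
      obtain rfl : w = 0 := Subtype.ext (hzero _ w.2 hw)
      simp
  symm
  refine Nat.card_eq_of_bijective (fun φ => ⟨⟨g φ, hinv φ⟩, hcomp φ⟩) ⟨fun φ ψ h => ?_, ?_⟩
  · have h' : g φ = g ψ := congrArg (fun X => X.1.1) h
    refine Subtype.ext (LinearMap.ext fun w => ?_)
    obtain ⟨w', hw'⟩ : (W.1.subtype + S.1.subtype.comp φ.1) w ∈ g ψ := h' ▸ ⟨w, rfl⟩
    simp only [LinearMap.add_apply, LinearMap.comp_apply, Submodule.subtype_apply] at hw'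
    have hd : (w' : V) - w = (φ.1 w : V) - ψ.1 w' := by
      rw [sub_eq_sub_iff_add_eq_add, hw', add_comm]
    have : (w' : V) - w = 0 :=
      hzero _ (W.1.sub_mem w'.2 w.2) (hd ▸ S.1.sub_mem (φ.1 w).2 (ψ.1 w').2)
    obtain rfl : w' = w := Subtype.ext (sub_eq_zero.1 this)
    exact Subtype.ext (add_left_cancel hw').symm
  · rintro ⟨X, hX1, hX2⟩
    let e := decomp hX1 hX2
    let i : W.1 →ₗ[F] U.1 := Submodule.inclusion hWU
    refine ⟨⟨-((LinearMap.snd F X.1 S.1).comp (e.symm.toLinearMap.comp i)), fun w => ?_⟩, ?_⟩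
    · have : e.symm (i (res W w)) = (res X).prodMap (res S) (e.symm (i w)) := by
        rw [LinearEquiv.symm_apply_eq, decomp_comm, LinearEquiv.apply_symm_apply]
        exact Subtype.ext rfl
      simp [this]
    · refine Subtype.ext (Subtype.ext ?_)
      show LinearMap.range _ = X.1
      refine le_antisymm ?_ ?_
      · rintro _ ⟨w, rfl⟩
        have hw : (w : V) = ((e.symm (i w)).1 : V) + (e.symm (i w)).2 := by
          rw [← decomp_apply hX1 hX2, LinearEquiv.apply_symm_apply]
          rfl
        simp [hw]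
      · intro x hx
        have hxU : x ∈ U.1 := (hX1 ▸ le_sup_left : X ≤ U) hx
        rw [← h1, coe_sup'] at hxU
        obtain ⟨w, hw, s, hs, rfl⟩ := Submodule.mem_sup.1 hxU
        refine ⟨⟨w, hw⟩, ?_⟩
        have he : e.symm (i ⟨w, hw⟩) = (⟨w + s, hx⟩, ⟨-s, S.1.neg_mem hs⟩) := by
          rw [LinearEquiv.symm_apply_eq]
          refine Subtype.ext ?_
          show w = (e (⟨w + s, hx⟩, ⟨-s, S.1.neg_mem hs⟩) : V)
          rw [decomp_apply]
          show w = (w + s) + -s
          abel
        simp [he]

/-- The value of the Moebius function, as a function of the multiset of irreducible factors. -/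
def value (q : ℕ) [DecidableEq F[X]] (s : Multiset F[X]) : ℤ :=
  ∏ f ∈ s.toFinset, (-1 : ℤ) ^ s.count f * (q : ℤ) ^ (f.natDegree * (s.count f).choose 2)

theorem value_cons (q : ℕ) [DecidableEq F[X]] (f : F[X]) (s : Multiset F[X]) :
    value q (f ::ₘ s) = -((q : ℤ) ^ (f.natDegree * s.count f)) * value q s := by
  have hs : value q s = ∏ g ∈ insert f s.toFinset,
      (-1 : ℤ) ^ s.count g * (q : ℤ) ^ (g.natDegree * (s.count g).choose 2) :=
    Finset.prod_subset (subset_insert f s.toFinset) (fun g _ hg => by
      rw [Multiset.mem_toFinset] at hg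
      simp [Multiset.count_eq_zero.2 hg])
  rw [hs]
  unfold value
  rw [Multiset.toFinset_cons]
  rw [← Finset.mul_prod_erase (insert f s.toFinset) _ (mem_insert_self f s.toFinset),
    ← Finset.mul_prod_erase (insert f s.toFinset)
      (fun g => (-1 : ℤ) ^ s.count g * (q : ℤ) ^ (g.natDegree * (s.count g).choose 2))
      (mem_insert_self f s.toFinset), Multiset.count_cons_self, Nat.choose_succ_succ,
    Nat.choose_one_right, mul_add, pow_add, pow_succ,
    Finset.prod_congr rfl fun g hg => by rw [Multiset.count_cons_of_ne (ne_of_mem_erase hg)]]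
  ring

theorem chainSum_eq (hss : a.IsSemisimple) [DecidableEq F] [DecidableEq F[X]] [Fintype a.invtSubmodule]
    [DecidableEq a.invtSubmodule] (U : a.invtSubmodule) :
    chainSum U =
      value (Nat.card F) (UniqueFactorizationMonoid.normalizedFactors (res U).charpoly) := by
  classical
  induction U using WellFoundedLT.induction with | _ U ih => ?_
  rcases IsAtomic.eq_bot_or_exists_atom_le U with rfl | ⟨S, hS, hSU⟩
  · simp [chainSum_bot, charpoly_bot, value]
  · have hs := isSimpleEnd_res hS
    obtain ⟨W, h1, h2⟩ := exists_complement hss hSU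
    have hirr : Irreducible (res S).charpoly := by
      rw [charpoly_eq_minpoly hs]; exact minpoly_irreducible hs
    have hw := weisner hS.1 U hSU
    rw [← Finset.sum_erase_add _ _ (show U ∈ univ.filter (fun X => X ⊔ S = U) by simp [hSU])] at hw
    have hset : (univ.filter (fun X => X ⊔ S = U)).erase U =
        univ.filter (fun X => X ⊔ S = U ∧ X ⊓ S = ⊥) := by
      ext X
      simp only [mem_erase, mem_filter, mem_univ, true_and]
      constructor
      · rintro ⟨hne, hX⟩
        refine ⟨hX, (hS.le_iff.1 inf_le_right).resolve_right fun h => hne ?_⟩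
        rw [← hX, sup_eq_left.2 (h ▸ inf_le_left)]
      · rintro ⟨hX, hX'⟩
        refine ⟨fun h => hS.1 ?_, hX⟩
        rw [← hX', h, inf_eq_right.2 hSU]
    have hconst : ∀ X ∈ univ.filter (fun X => X ⊔ S = U ∧ X ⊓ S = ⊥), chainSum X =
        value (Nat.card F) (UniqueFactorizationMonoid.normalizedFactors (res W).charpoly) := by
      intro X hX
      simp only [mem_filter, mem_univ, true_and] at hX
      have hXU : X < U := by
        refine lt_of_le_of_ne (hX.1 ▸ le_sup_left) fun he => hS.1 ?_
        rw [← hX.2, he, inf_eq_right.2 hSU]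
      rw [ih X hXU, mul_right_cancel₀ (LinearMap.charpoly_monic (res S)).ne_zero
        ((charpoly_mul hX.1 hX.2).symm.trans (charpoly_mul h1 h2))]
    rw [hset, sum_congr rfl hconst, sum_const, nsmul_eq_mul, add_eq_zero_iff_eq_neg'] at hw
    have hc : (univ.filter (fun X => X ⊔ S = U ∧ X ⊓ S = ⊥)).card =
        Nat.card F ^ ((res S).charpoly.natDegree *
          (UniqueFactorizationMonoid.normalizedFactors (res W).charpoly).count (res S).charpoly) := by
      rw [← card_eqHom hss hS, ← card_complements h1 h2, Nat.card_eq_fintype_card,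
        Fintype.card_subtype]
    rw [hw, hc, charpoly_mul h1 h2,
      UniqueFactorizationMonoid.normalizedFactors_mul (LinearMap.charpoly_monic _).ne_zero
        (LinearMap.charpoly_monic _).ne_zero,
      UniqueFactorizationMonoid.normalizedFactors_irreducible hirr,
      (LinearMap.charpoly_monic _).normalize_eq_self, Multiset.add_comm, Multiset.singleton_add,
      value_cons, Nat.cast_pow]
    ring

end Lattice

end Cfsg.FlagCharacters.InvMoebius
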