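import Mathlib
import Cfsg.Agent.Lib.FlagCharacters.Pairs

/-!
The permutations `κ` with `κ i ≤ i + 1` and the sets of block ends.
-/

set_option autoImplicit false

namespace Cfsg.FlagCharacters.Ones

open Finset Cfsg Cfsg.Agent.S2422

variable {n : ℕ}

/-- The start of the block containing position `t`. -/
def start (E : Finset (Fin n)) (t : ℕ) : ℕ :=
  (E.filter fun e => e.val < t).sup fun e => e.val + 1

/-- Sets of block ends: the last position is an end. -/
def IsEnds (E : Finset (Fin n)) : Prop := ∀ i : Fin n, i.val + 1 = n → i ∈ E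

theorem start_le (E : Finset (Fin n)) (t : ℕ) : start E t ≤ t :=
  Finset.sup_le fun e he => (mem_filter.1 he).2

theorem le_start {E : Finset (Fin n)} {e : Fin n} (he : e ∈ E) {t : ℕ} (h : e.val < t) :
    e.val + 1 ≤ start E t :=
  Finset.le_sup (f := fun e : Fin n => e.val + 1) (mem_filter.2 ⟨he, h⟩)

theorem start_cases (E : Finset (Fin n)) (t : ℕ) :
    start E t = 0 ∨ ∃ e ∈ E, e.val < t ∧ start E t = e.val + 1 := by
  rcases (E.filter fun e => e.val < t).eq_empty_or_nonempty with h | h
  · left; simp [start, h]
  · obtain ⟨e, he, h'⟩ := Finset.exists_mem_eq_sup _ h (fun e : Fin n => e.val + 1)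
    exact Or.inr ⟨e, (mem_filter.1 he).1, (mem_filter.1 he).2, h'⟩

theorem start_mono (E : Finset (Fin n)) {s t : ℕ} (h : s ≤ t) : start E s ≤ start E t :=
  Finset.sup_le fun _ he => le_start (mem_filter.1 he).1 ((mem_filter.1 he).2.trans_le h)

theorem start_succ_of_mem {E : Finset (Fin n)} {e : Fin n} (he : e ∈ E) :
    start E (e.val + 1) = e.val + 1 :=
  le_antisymm (start_le _ _) (le_start he (Nat.lt_succ_self _))

theorem start_succ_of_notMem {E : Finset (Fin n)} {t : ℕ} (h : ∀ e ∈ E, e.val ≠ t) :
    start E (t + 1) = start E t := by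
  refine le_antisymm (Finset.sup_le fun e he => le_start (mem_filter.1 he).1 ?_)
    (start_mono E (Nat.le_succ t))
  have := h e (mem_filter.1 he).1
  have := (mem_filter.1 he).2
  omega

/-- The cyclic shift of every block, as a function. -/
def blockFun (E : Finset (Fin n)) (hE : IsEnds E) (i : Fin n) : Fin n :=
  if h : i ∈ E then ⟨start E i.val, (start_le E i.val).trans_lt i.2⟩
  else ⟨i.val + 1, lt_of_le_of_ne i.2 fun e => h (hE i e)⟩

theorem blockFun_mem {E : Finset (Fin n)} {hE : IsEnds E} {i : Fin n} (h : i ∈ E) :
    (blockFun E hE i).val = start E i.val := by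
  rw [blockFun, dif_pos h]

theorem blockFun_notMem {E : Finset (Fin n)} {hE : IsEnds E} {i : Fin n} (h : i ∉ E) :
    (blockFun E hE i).val = i.val + 1 := by
  rw [blockFun, dif_neg h]

theorem blockFun_injective (E : Finset (Fin n)) (hE : IsEnds E) :
    Function.Injective (blockFun E hE) := by
  intro i j h
  have h' := congrArg Fin.val h
  by_cases hi : i ∈ E <;> by_cases hj : j ∈ E
  · rw [blockFun_mem hi, blockFun_mem hj] at h'
    by_contra hne
    rcases lt_or_gt_of_ne (fun e => hne (Fin.ext e)) with hlt | hlt
    · have := le_start hi hlt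
      have := start_le E i.val
      omega
    · have := le_start hj hlt
      have := start_le E j.val
      omega
  · rw [blockFun_mem hi, blockFun_notMem hj] at h'
    rcases start_cases E i.val with h0 | ⟨e, he, -, h0⟩
    · omega
    · exact absurd (Fin.ext (show e.val = j.val by omega) ▸ he) hj
  · rw [blockFun_notMem hi, blockFun_mem hj] at h'
    rcases start_cases E j.val with h0 | ⟨e, he, -, h0⟩
    · omega
    · exact absurd (Fin.ext (show e.val = i.val by omega) ▸ he) hi
  · rw [blockFun_notMem hi, blockFun_notMem hj] at h'
    exact Fin.ext (by omega)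

/-- The permutation with block ends `E`. -/
noncomputable def blockPerm (E : Finset (Fin n)) (hE : IsEnds E) : Equiv.Perm (Fin n) :=
  Equiv.ofBijective _ (Finite.injective_iff_bijective.1 (blockFun_injective E hE))

theorem blockPerm_mem {E : Finset (Fin n)} {hE : IsEnds E} {i : Fin n} (h : i ∈ E) :
    (blockPerm E hE i).val = start E i.val := blockFun_mem (hE := hE) h

theorem blockPerm_notMem {E : Finset (Fin n)} {hE : IsEnds E} {i : Fin n} (h : i ∉ E) :
    (blockPerm E hE i).val = i.val + 1 := blockFun_notMem (hE := hE) h

theorem blockPerm_adm (E : Finset (Fin n)) (hE : IsEnds E) (i : Fin n) :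
    (blockPerm E hE i).val ≤ 1 + i.val := by
  by_cases h : i ∈ E
  · rw [blockPerm_mem h]; have := start_le E i.val; omega
  · rw [blockPerm_notMem h]; omega

/-- The block ends of a permutation. -/
def ends (κ : Equiv.Perm (Fin n)) : Finset (Fin n) := univ.filter fun i => (κ i).val ≤ i.val

theorem isEnds_ends (κ : Equiv.Perm (Fin n)) : IsEnds (ends κ) := fun i hi =>
  mem_filter.2 ⟨mem_univ _, by have := (κ i).2; omega⟩

theorem ends_blockPerm (E : Finset (Fin n)) (hE : IsEnds E) : ends (blockPerm E hE) = E := by
  ext i
  rw [ends, mem_filter]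
  by_cases h : i ∈ E
  · simp [h, blockPerm_mem h, start_le]
  · simp [h, blockPerm_notMem h]

theorem image_Iic {κ : Equiv.Perm (Fin n)} (hκ : ∀ i : Fin n, (κ i).val ≤ 1 + i.val) {i : Fin n}
    (hi : i ∈ ends κ) : (Iic i).map κ.toEmbedding = Iic i := by
  refine eq_of_subset_of_card_le (fun x hx => ?_) (by rw [card_map])
  obtain ⟨k, hk, rfl⟩ := Finset.mem_map.1 hx
  have hk' : k.val ≤ i.val := (mem_Iic.1 hk : k ≤ i)
  refine mem_Iic.2 ?_
  show (κ k).val ≤ i.val
  rcases Nat.lt_or_ge k.val i.val with h | h
  · have := hκ k; omega
  · rw [show k = i from Fin.ext (by omega)]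
    exact (mem_filter.1 hi).2

theorem eq_blockPerm {κ : Equiv.Perm (Fin n)} (hκ : ∀ i : Fin n, (κ i).val ≤ 1 + i.val) :
    blockPerm (ends κ) (isEnds_ends κ) = κ := by
  set κ' := blockPerm (ends κ) (isEnds_ends κ) with hκ'
  refine Equiv.ext fun i => ?_
  induction i using WellFoundedLT.induction with | _ i ih => ?_
  by_cases hi : i ∈ ends κ
  · have h' : i ∈ ends κ' := by rw [hκ', ends_blockPerm]; exact hi
    have hmem : κ' i ∈ (Iic i).map κ.toEmbedding := by
      rw [image_Iic hκ hi]
      exact mem_Iic.2 (mem_filter.1 h').2
    obtain ⟨j, hj, he⟩ := Finset.mem_map.1 hmem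
    rcases lt_or_eq_of_le (mem_Iic.1 hj) with h | h
    · have h2 := ih j h
      rw [Equiv.coe_toEmbedding, ← h2] at he
      exact absurd (κ'.injective he) h.ne
    · rw [h] at he; exact he.symm
  · refine Fin.ext ?_
    rw [hκ', blockPerm_notMem hi]
    have : ¬ (κ i).val ≤ i.val := fun h => hi (mem_filter.2 ⟨mem_univ _, h⟩)
    have := hκ i
    omega

theorem psum_min (μ : Fin n → ℕ) (t : ℕ) : psum μ t = psum μ (min t n) := by
  refine Finset.sum_congr (Finset.filter_congr fun k _ => ?_) fun _ _ => rfl
  have := k.2
  omega

theorem psum_blockPerm (E : Finset (Fin n)) (hE : IsEnds E) (t : ℕ) :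
    psum (fun i : Fin n => 1 + i.val - (blockPerm E hE i).val) t = start E t := by
  induction t with
  | zero =>
    rw [psum_zero]
    exact (Nat.le_zero.1 (start_le E 0)).symm
  | succ t ih =>
    by_cases ht : t < n
    · rw [show t + 1 = (⟨t, ht⟩ : Fin n).val + 1 from rfl, psum_succ]
      simp only
      rw [ih]
      by_cases he : (⟨t, ht⟩ : Fin n) ∈ E
      · rw [blockPerm_mem he, start_succ_of_mem (e := ⟨t, ht⟩) he]
        have := start_le E t
        simp only
        omega
      · rw [blockPerm_notMem he, start_succ_of_notMem (t := t) fun e hm h => he (by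
          rwa [show (⟨t, ht⟩ : Fin n) = e from Fin.ext h.symm])]
        simp only
        omega
    · rw [start_succ_of_notMem (t := t) fun e _ h => ht (h ▸ e.2), psum_min, ← ih, psum_min _ t]
      congr 1
      omega

theorem sign_blockPerm : ∀ (m : ℕ) (E : Finset (Fin n)) (hE : IsEnds E), n = E.card + m →
    Equiv.Perm.sign (blockPerm E hE) = (-1) ^ m := by
  intro m
  induction m with
  | zero =>
    intro E hE hc
    have hEu : E = univ := eq_univ_of_card E (by simpa using hc.symm)
    subst hEu
    have : blockPerm (univ : Finset (Fin n)) hE = 1 := by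
      refine Equiv.ext fun i => Fin.ext ?_
      rw [blockPerm_mem (mem_univ i), Equiv.Perm.one_apply]
      refine le_antisymm (start_le _ _) ?_
      rcases Nat.eq_zero_or_pos i.val with h | h
      · omega
      · have hlt : i.val - 1 < n := by have := i.2; omega
        have := le_start (E := univ) (e := (⟨i.val - 1, hlt⟩ : Fin n)) (mem_univ _) (t := i.val)
          (show i.val - 1 < i.val by omega)
        simp only at this
        omega
    rw [this, map_one, pow_zero]
  | succ m ih =>
    intro E hE hc
    obtain ⟨i, hi⟩ : ∃ i, i ∉ E := by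
      by_contra h
      push Not at h
      rw [eq_univ_of_forall h, card_univ, Fintype.card_fin] at hc
      omega
    have hE' : IsEnds (insert i E) := fun k hk => mem_insert_of_mem (hE k hk)
    have hin : i.val + 1 ≠ n := fun h => hi (hE i h)
    have hne : (E.filter fun e => i < e).Nonempty := by
      refine ⟨⟨n - 1, by have := i.2; omega⟩, mem_filter.2 ⟨hE _ (by have := i.2; simp only; omega), ?_⟩⟩
      show i.val < n - 1
      have := i.2
      omega
    obtain ⟨j, hjE, hij, hmin⟩ : ∃ j ∈ E, i < j ∧ ∀ e ∈ E, i < e → j ≤ e :=
      ⟨_, (mem_filter.1 ((E.filter fun e => i < e).min'_mem hne)).1,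
        (mem_filter.1 ((E.filter fun e => i < e).min'_mem hne)).2,
        fun e he h => (E.filter fun e => i < e).min'_le e (mem_filter.2 ⟨he, h⟩)⟩
    have hgap : ∀ e ∈ E, e.val < j.val → e.val < i.val := by
      intro e he hlt
      by_contra h
      have : i < e := lt_of_le_of_ne (not_lt.1 h) fun h' => hi (h' ▸ he)
      have h2 : j.val ≤ e.val := hmin e he this
      omega
    have hij' : i.val < j.val := hij
    have hsw : blockPerm E hE = blockPerm (insert i E) hE' * Equiv.swap i j := by
      refine Equiv.ext fun k => Fin.ext ?_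
      rw [Equiv.Perm.mul_apply]
      rcases eq_or_ne k i with rfl | hki
      · rw [Equiv.swap_apply_left, blockPerm_notMem hi, blockPerm_mem (mem_insert_of_mem hjE)]
        refine le_antisymm (le_start (mem_insert_self _ _) hij') ?_
        rcases start_cases (insert k E) j.val with h | ⟨e, he, hlt, h⟩
        · omega
        · rcases mem_insert.1 he with rfl | he
          · omega
          · have := hgap e he hlt; omega
      rcases eq_or_ne k j with hkj | hkj
      · rw [hkj, Equiv.swap_apply_right, blockPerm_mem hjE, blockPerm_mem (mem_insert_self _ _)]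
        refine le_antisymm ?_ ?_
        · rcases start_cases E j.val with h | ⟨e, he, hlt, h⟩
          · omega
          · rw [h]; exact le_start (mem_insert_of_mem he) (hgap e he hlt)
        · rcases start_cases (insert i E) i.val with h | ⟨e, he, hlt, h⟩
          · omega
          · rw [h]
            rcases mem_insert.1 he with rfl | he
            · omega
            · exact le_start he (by omega)
      rw [Equiv.swap_apply_of_ne_of_ne hki hkj]
      by_cases hk : k ∈ E
      · rw [blockPerm_mem hk, blockPerm_mem (mem_insert_of_mem hk)]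
        refine le_antisymm ?_ ?_
        · rcases start_cases E k.val with h | ⟨e, he, hlt, h⟩
          · omega
          · rw [h]; exact le_start (mem_insert_of_mem he) hlt
        · rcases start_cases (insert i E) k.val with h | ⟨e, he, hlt, h⟩
          · omega
          · rw [h]
            rcases mem_insert.1 he with rfl | he
            · have : j.val < k.val := by
                rcases lt_trichotomy k.val j.val with h' | h' | h'
                · have := hgap k hk h'; omega
                · exact absurd (Fin.ext h') hkj
                · exact h'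
              have := le_start hjE this
              omega
            · exact le_start he hlt
      · rw [blockPerm_notMem hk, blockPerm_notMem (by simp [hki, hk])]
    rw [hsw, map_mul, Equiv.Perm.sign_swap (by exact hij.ne),
      ih (insert i E) hE' (by rw [card_insert_of_notMem hi]; omega), pow_succ]

end Cfsg.FlagCharacters.Ones
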